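import Mathlib
import Cfsg.Prelude.Def_Transfer
import Cfsg.Agent.Lib.Fusion.Basic

/-!
Elementary facts for groups with cyclic Sylow `p`-subgroups all of whose `p'`-subgroups are abelian.
-/

set_option autoImplicit false

namespace CfsgLib.Solvable.CyclicAbelianPPrime

variable {G : Type*} [Group G] {p : ℕ}

/-- Every subgroup of order prime to `p` is commutative. -/
def Ab (G : Type*) [Group G] (p : ℕ) : Prop :=
  ∀ H : Subgroup G, ¬ p ∣ Nat.card H → ∀ a ∈ H, ∀ b ∈ H, a * b = b * a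

/-- Every `p`-subgroup is cyclic. -/
def Cyc (G : Type*) [Group G] (p : ℕ) : Prop :=
  ∀ Q : Subgroup G, IsPGroup p Q → IsCyclic Q

/-- The conclusion. -/
def Concl (G : Type*) [Group G] (p : ℕ) : Prop :=
  Cfsg.HasNormalPComplement p G ∨ ∀ P : Sylow p G, (P : Subgroup G).Normal

theorem ab_subgroup (h : Ab G p) (K : Subgroup G) : Ab K p := by
  intro H hH a ha b hb
  apply Subtype.ext
  refine h (H.map K.subtype) ?_ _ (Subgroup.mem_map_of_mem _ ha) _ (Subgroup.mem_map_of_mem _ hb)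
  rwa [Subgroup.card_map_of_injective K.subtype_injective]

theorem cyc_subgroup (h : Cyc G p) (K : Subgroup G) : Cyc K p := by
  intro Q hQ
  haveI := h (Q.map K.subtype) (hQ.map _)
  exact (Q.equivMapOfInjective _ K.subtype_injective).isCyclic.2 inferInstance

theorem not_dvd_card_of_forall [Finite G] [Fact p.Prime] (H : Subgroup G)
    (h : ∀ x ∈ H, (orderOf x).Coprime p) : ¬ p ∣ Nat.card H := by
  intro hd
  obtain ⟨x, hx⟩ := exists_prime_orderOf_dvd_card' p hd
  have := h x x.2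
  rw [Subgroup.orderOf_coe, hx, Nat.coprime_self] at this
  exact (Fact.out : p.Prime).ne_one this

theorem coprime_of_mem [hp : Fact p.Prime] {H : Subgroup G} (h : ¬ p ∣ Nat.card H) {x : G}
    (hx : x ∈ H) : (orderOf x).Coprime p :=
  Nat.Coprime.coprime_dvd_left (Subgroup.orderOf_dvd_natCard _ hx)
    (hp.out.coprime_iff_not_dvd.2 h).symm

theorem eq_one_of_coprime [hp : Fact p.Prime] {Q : Subgroup G} (hQ : IsPGroup p Q) {x : G}
    (hx : x ∈ Q) (hc : (orderOf x).Coprime p) : x = 1 := by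
  have := CfsgLib.Fusion.Basic.eq_one_of_isPGroup_of_coprime hQ (x := ⟨x, hx⟩)
    (by rw [Subgroup.orderOf_mk]; exact hc)
  exact congrArg Subtype.val this

theorem ab_quotient [Finite G] [Fact p.Prime] (h : Ab G p) (N : Subgroup G) [N.Normal]
    (hN : ¬ p ∣ Nat.card N) : Ab (G ⧸ N) p := by
  intro H hH a ha b hb
  obtain ⟨x, rfl⟩ := QuotientGroup.mk'_surjective N a
  obtain ⟨y, rfl⟩ := QuotientGroup.mk'_surjective N b
  have hp := (Fact.out : p.Prime)
  have hX : ¬ p ∣ Nat.card (H.comap (QuotientGroup.mk' N)) := by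
    refine not_dvd_card_of_forall _ fun g hg => ?_
    have h1 : (orderOf (QuotientGroup.mk' N g)).Coprime p := coprime_of_mem hH hg
    have h2 : g ^ orderOf (QuotientGroup.mk' N g) ∈ N := by
      rw [← QuotientGroup.eq_one_iff]
      exact (map_pow (QuotientGroup.mk' N) g _).trans (pow_orderOf_eq_one _)
    have h3 : orderOf g ∣ orderOf (QuotientGroup.mk' N g) * Nat.card N := by
      apply orderOf_dvd_of_pow_eq_one
      rw [pow_mul]
      exact orderOf_dvd_iff_pow_eq_one.1 (Subgroup.orderOf_dvd_natCard N h2)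
    exact Nat.Coprime.coprime_dvd_left h3
      (Nat.Coprime.mul_left h1 (hp.coprime_iff_not_dvd.2 hN).symm)
  rw [← map_mul, ← map_mul, h _ hX x ha y hb]

theorem cyc_quotient [Finite G] [Fact p.Prime] (h : Cyc G p) (N : Subgroup G) [N.Normal] :
    Cyc (G ⧸ N) p := by
  intro Q hQ
  obtain ⟨R, hR⟩ := hQ.exists_le_sylow
  obtain ⟨P, rfl⟩ := Sylow.mapSurjective_surjective (QuotientGroup.mk'_surjective N) p R
  haveI := h _ P.2
  haveI : IsCyclic (P.1.map (QuotientGroup.mk' N)) :=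
    isCyclic_of_surjective ((QuotientGroup.mk' N).subgroupMap P.1)
      (MonoidHom.subgroupMap_surjective _ _)
  rw [Sylow.coe_mapSurjective] at hR
  exact isCyclic_of_injective (Subgroup.inclusion hR) (Subgroup.inclusion_injective hR)

theorem mem_zpowers_of_pow_eq_one [hp : Fact p.Prime] {Q : Subgroup G} [Finite Q] (hQ : IsCyclic Q)
    {z w : G} (hz : z ∈ Q) (hzp : orderOf z = p) (hw : w ∈ Q) (hwp : w ^ p = 1) :
    w ∈ Subgroup.zpowers z := by
  classical
  haveI : Fintype Q := Fintype.ofFinite _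
  set z' : Q := ⟨z, hz⟩
  set T := Finset.univ.filter fun a : Q => a ^ p = 1
  have h1 : T.card ≤ p := IsCyclic.card_pow_eq_one_le hp.out.pos
  have h2 : (Finset.range p).image (fun i => z' ^ i) ⊆ T := by
    intro a ha
    obtain ⟨i, -, rfl⟩ := Finset.mem_image.1 ha
    refine Finset.mem_filter.2 ⟨Finset.mem_univ _, ?_⟩
    rw [← pow_mul, mul_comm, pow_mul]
    have : z' ^ p = 1 := Subtype.ext (by
      rw [SubgroupClass.coe_pow]; exact hzp ▸ pow_orderOf_eq_one z)
    rw [this, one_pow]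
  have h3 : ((Finset.range p).image (fun i => z' ^ i)).card = p := by
    rw [Finset.card_image_of_injOn, Finset.card_range]
    intro i hi j hj hij
    have ho : orderOf z' = p := by rw [Subgroup.orderOf_mk, hzp]
    exact pow_injOn_Iio_orderOf (by simpa [ho] using hi) (by simpa [ho] using hj) hij
  have h4 := Finset.eq_of_subset_of_card_le h2 (by omega)
  have h5 : (⟨w, hw⟩ : Q) ∈ T := Finset.mem_filter.2 ⟨Finset.mem_univ _, Subtype.ext (by
    rw [SubgroupClass.coe_pow]; exact hwp)⟩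
  rw [← h4] at h5
  obtain ⟨i, -, hi⟩ := Finset.mem_image.1 h5
  exact ⟨i, by simpa [z'] using congrArg Subtype.val hi⟩

/-- Split into a `p'`-part and a `p`-part. -/
theorem exists_decomp [Finite G] [hp : Fact p.Prime] (y : G) :
    ∃ a b, y = a * b ∧ a ∈ Subgroup.zpowers y ∧ b ∈ Subgroup.zpowers y ∧ (orderOf a).Coprime p ∧
      IsPGroup p (Subgroup.zpowers b) := by
  set n := orderOf y with hn
  have hn0 : n ≠ 0 := (orderOf_pos y).ne'
  set v := p ^ n.factorization p with hv
  set m := n / v with hm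
  have hvm : v * m = n := Nat.ordProj_mul_ordCompl_eq_self n p
  have hmc : m.Coprime p := ((Nat.coprime_ordCompl hp.out hn0)).symm
  have hcop : Nat.gcd v m = 1 := (Nat.Coprime.pow_left _ hmc.symm)
  have hbez := Nat.gcd_eq_gcd_ab v m
  rw [hcop, Nat.cast_one] at hbez
  refine ⟨(y ^ v) ^ Nat.gcdA v m, (y ^ m) ^ Nat.gcdB v m, ?_, ?_, ?_, ?_, ?_⟩
  · rw [← zpow_natCast, ← zpow_natCast, ← zpow_mul, ← zpow_mul, ← zpow_add, ← hbez, zpow_one]
  · exact Subgroup.zpow_mem _ (Subgroup.pow_mem _ (Subgroup.mem_zpowers y) _) _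
  · exact Subgroup.zpow_mem _ (Subgroup.pow_mem _ (Subgroup.mem_zpowers y) _) _
  · refine Nat.Coprime.coprime_dvd_left ?_ hmc
    apply orderOf_dvd_of_pow_eq_one
    rw [← zpow_natCast ((y ^ v) ^ _), ← zpow_mul, mul_comm, zpow_mul, zpow_natCast, ← pow_mul,
      hvm, hn, pow_orderOf_eq_one, one_zpow]
  · have h1 : orderOf ((y ^ m) ^ Nat.gcdB v m) ∣ v := by
      apply orderOf_dvd_of_pow_eq_one
      rw [← zpow_natCast ((y ^ m) ^ _), ← zpow_mul, mul_comm, zpow_mul, zpow_natCast, ← pow_mul,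
        mul_comm m v, hvm, hn, pow_orderOf_eq_one, one_zpow]
    obtain ⟨j, -, hj⟩ := (Nat.dvd_prime_pow hp.out).1 h1
    exact IsPGroup.of_card ((Nat.card_zpowers _).trans hj)

/-- A `p'`-subgroup is centralised by the `p'`-elements normalising it. -/
theorem comm_of_normalizes [Finite G] [hp : Fact p.Prime] (h : Ab G p) (T : Subgroup G)
    (hT : ¬ p ∣ Nat.card T) {a : G} (ha : (orderOf a).Coprime p)
    (hn : a ∈ Subgroup.normalizer (T : Set G)) : ∀ t ∈ T, a * t = t * a := by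
  set M := Subgroup.normalizer (T : Set G) with hM
  let a' : M := ⟨a, hn⟩
  set X : Subgroup G :=
    ((Subgroup.zpowers (QuotientGroup.mk' (T.subgroupOf M) a')).comap
      (QuotientGroup.mk' (T.subgroupOf M))).map M.subtype with hX
  have hXp : ¬ p ∣ Nat.card X := by
    refine not_dvd_card_of_forall _ ?_
    rintro _ ⟨g, hg, rfl⟩
    have h1 : g ^ orderOf a ∈ T.subgroupOf M := by
      rw [← QuotientGroup.eq_one_iff]
      obtain ⟨i, hi⟩ := hg
      show QuotientGroup.mk' (T.subgroupOf M) (g ^ orderOf a) = 1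
      rw [map_pow, ← hi, ← zpow_natCast, ← zpow_mul, mul_comm, zpow_mul, zpow_natCast,
        ← map_pow]
      have : a' ^ orderOf a = 1 := Subtype.ext (by
        rw [SubgroupClass.coe_pow]; exact pow_orderOf_eq_one a)
      rw [this, map_one, one_zpow]
    have h3 : orderOf (g : G) ∣ orderOf a * Nat.card T := by
      apply orderOf_dvd_of_pow_eq_one
      rw [pow_mul]
      have h1' : ((g : G)) ^ orderOf a ∈ T := h1
      exact orderOf_dvd_iff_pow_eq_one.1 (Subgroup.orderOf_dvd_natCard T h1')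
    exact Nat.Coprime.coprime_dvd_left h3
      (Nat.Coprime.mul_left ha (hp.out.coprime_iff_not_dvd.2 hT).symm)
  intro t ht
  refine h X hXp a ?_ t ?_
  · exact ⟨a', Subgroup.mem_comap.2 (Subgroup.mem_zpowers _), rfl⟩
  · have htM : t ∈ M := Subgroup.le_normalizer ht
    refine ⟨⟨t, htM⟩, ?_, rfl⟩
    have : QuotientGroup.mk' (T.subgroupOf M) ⟨t, htM⟩ = 1 := (QuotientGroup.eq_one_iff _).2 ht
    refine Subgroup.mem_comap.2 ?_
    rw [this]
    exact Subgroup.one_mem _

/-- Coprime elements normalising a cyclic `p`-group are fixed-point-free or trivial on it. -/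
theorem eq_one_of_comm [Finite G] [hp : Fact p.Prime] {P : Subgroup G} (hP : IsPGroup p P)
    (hc : IsCyclic P) {k : G} (hk : (orderOf k).Coprime p)
    (hn : k ∈ Subgroup.normalizer (P : Set G)) (hne : ∃ u ∈ P, k * u ≠ u * k)
    {w : G} (hw : w ∈ P) (hkw : k * w = w * k) : w = 1 := by
  obtain ⟨g, hg⟩ := hc.exists_generator
  obtain ⟨r, hr⟩ : ∃ r : ℤ, (g : G) ^ r = k * g * k⁻¹ := by
    have : k * g * k⁻¹ ∈ P := (Subgroup.mem_normalizer_iff.1 hn _).1 g.2
    obtain ⟨r, hr⟩ := hg ⟨_, this⟩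
    exact ⟨r, by simpa using congrArg Subtype.val hr⟩
  obtain ⟨n, hn'⟩ := (IsPGroup.iff_orderOf).1 hP g
  have hng : orderOf (g : G) = p ^ n := by rw [Subgroup.orderOf_coe]; exact hn'
  obtain ⟨j, hj⟩ := hg ⟨w, hw⟩
  have hj' : w = (g : G) ^ j := by simpa using (congrArg Subtype.val hj).symm
  have hconj : ∀ i : ℕ, k ^ i * g * (k ^ i)⁻¹ = (g : G) ^ (r ^ i) := by
    intro i
    induction i with
    | zero => simp
    | succ i ih =>
      rw [pow_succ' k i, mul_inv_rev]
      calc k * k ^ i * g * ((k ^ i)⁻¹ * k⁻¹) = k * (k ^ i * g * (k ^ i)⁻¹) * k⁻¹ := by group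
        _ = (g : G) ^ (r ^ (i + 1)) := by
          rw [ih, ← conj_zpow, ← hr, ← zpow_mul, pow_succ' r i]
  have hndvd : ¬ (p : ℤ) ∣ r - 1 := by
    intro hd
    have h1 := dvd_sub_pow_of_dvd_sub hd n
    have h2 : ((p : ℤ) ^ n) ∣ r ^ p ^ n - 1 := by
      rw [one_pow] at h1
      exact (pow_dvd_pow _ (Nat.le_succ n)).trans h1
    have h3 : k ^ p ^ n * g = g * k ^ p ^ n := by
      rw [← mul_inv_eq_iff_eq_mul, hconj]
      conv_rhs => rw [← zpow_one (g : G)]
      apply zpow_eq_zpow_iff_modEq.2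
      rw [hng, Int.modEq_iff_dvd]
      push_cast
      rw [← neg_sub, dvd_neg]
      exact h2
    obtain ⟨u, hu, hne⟩ := hne
    apply hne
    obtain ⟨i, hi⟩ := hg ⟨u, hu⟩
    have hu' : u = (g : G) ^ i := by simpa using (congrArg Subtype.val hi).symm
    obtain ⟨m, hm⟩ := exists_pow_eq_self_of_coprime (Nat.Coprime.pow_left n hk.symm)
    have : Commute (k ^ p ^ n) (g : G) := h3
    rw [hu']
    conv_lhs => rw [← hm]
    conv_rhs => rw [← hm]
    exact ((this.pow_left m).zpow_right i)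
  have h1 : (g : G) ^ (r * j) = (g : G) ^ j := by
    rw [zpow_mul, hr, conj_zpow, ← hj', hkw, mul_inv_cancel_right]
  rw [zpow_eq_zpow_iff_modEq, hng, Int.modEq_iff_dvd] at h1
  rw [hj', ← orderOf_dvd_iff_zpow_eq_one, hng]
  have h2 : j - r * j = -((r - 1) * j) := by ring
  rw [h2, dvd_neg] at h1
  push_cast at h1 ⊢
  refine IsCoprime.dvd_of_dvd_mul_left ?_ h1
  exact IsCoprime.pow_left ((Nat.prime_iff_prime_int.1 hp.out).coprime_iff_not_dvd.2 hndvd)

/-- In a normal `p`-nilpotent situation a `p'`-element normalising `P` centralises it. -/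
theorem comm_of_npc [Finite G] [hp : Fact p.Prime] (K : Subgroup G)
    (h : Cfsg.HasNormalPComplement p K) (P : Subgroup G) (hP : IsPGroup p P) (hPK : P ≤ K)
    {k : G} (hk : k ∈ K) (hkc : (orderOf k).Coprime p)
    (hn : k ∈ Subgroup.normalizer (P : Set G)) : ∀ u ∈ P, k * u = u * k := by
  intro u hu
  have h1 : (⟨k, hk⟩ : K) ∈ Cfsg.pResidual p K :=
    CfsgLib.Fusion.Basic.mem_pResidual_of_coprime (by rwa [Subgroup.orderOf_mk])
  haveI : (Cfsg.pResidual p K).Normal := inferInstance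
  set c : K := ⟨k, hk⟩ * (⟨u, hPK hu⟩ * (⟨k, hk⟩ : K)⁻¹ * (⟨u, hPK hu⟩ : K)⁻¹) with hc
  have h2 : c ∈ Cfsg.pResidual p K :=
    mul_mem h1 (Subgroup.Normal.conj_mem inferInstance _ (inv_mem h1) _)
  have h3 : (orderOf c).Coprime p := (CfsgLib.Fusion.Basic.mem_pResidual_iff h).1 h2
  have h4 : (c : G) ∈ P := by
    have : k * u * k⁻¹ ∈ P := (Subgroup.mem_normalizer_iff.1 hn u).1 hu
    have h5 := mul_mem this (inv_mem hu)
    simpa [hc, mul_assoc] using h5
  have h6 := eq_one_of_coprime hP h4 (by rwa [Subgroup.orderOf_coe])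
  simp only [hc, Subgroup.coe_mul, InvMemClass.coe_inv] at h6
  rw [← mul_assoc, ← mul_assoc, mul_inv_eq_one, mul_inv_eq_iff_eq_mul] at h6
  exact h6

/-- Burnside's transfer criterion, elementwise. -/
theorem npc_of_burnside [Finite G] [Fact p.Prime] (P : Sylow p G)
    (h : ∀ y ∈ Subgroup.normalizer ((P : Subgroup G) : Set G), ∀ x ∈ (P : Subgroup G),
      x * y = y * x) : Cfsg.HasNormalPComplement p G := by
  have hP : Subgroup.normalizer ((P : Subgroup G) : Set G) ≤
      Subgroup.centralizer ((P : Subgroup G) : Set G) :=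
    fun y hy => Subgroup.mem_centralizer_iff.2 fun x hx => h y hy x hx
  exact ⟨P, _, inferInstance, MonoidHom.ker_transferSylow_isComplement' P hP⟩

theorem mem_sylow_of_normalizes [Finite G] [hp : Fact p.Prime] (P : Sylow p G) {b : G}
    (hb : IsPGroup p (Subgroup.zpowers b))
    (hn : b ∈ Subgroup.normalizer ((P : Subgroup G) : Set G)) : b ∈ (P : Subgroup G) := by
  have h1 : IsPGroup p (Subgroup.zpowers b ⊔ (P : Subgroup G) : Subgroup G) :=
    hb.to_sup_of_normal_right' P.2 (Subgroup.zpowers_le.2 hn)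
  have h2 := P.3 h1 le_sup_right
  exact h2 ▸ Subgroup.mem_sup_left (Subgroup.mem_zpowers b)

theorem exists_noncentral [Finite G] [hp : Fact p.Prime] (P : Sylow p G)
    (hc : IsCyclic (P : Subgroup G)) (h : ¬ Cfsg.HasNormalPComplement p G) :
    ∃ k : G, (orderOf k).Coprime p ∧ k ∈ Subgroup.normalizer ((P : Subgroup G) : Set G) ∧
      ∃ u ∈ (P : Subgroup G), k * u ≠ u * k := by
  by_contra hne
  push Not at hne
  apply h
  refine npc_of_burnside P fun y hy x hx => ?_
  obtain ⟨a, b, rfl, ha, hb, hac, hbp⟩ := exists_decomp (p := p) y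
  have ha' := Subgroup.zpowers_le.2 hy ha
  have hb' := mem_sylow_of_normalizes P hbp (Subgroup.zpowers_le.2 hy hb)
  have h1 : Commute a x := hne a hac ha' x hx
  have h2 : Commute b x := by
    letI := hc.commGroup
    exact congrArg Subtype.val (mul_comm (⟨b, hb'⟩ : (P : Subgroup G)) ⟨x, hx⟩)
  exact ((h1.mul_left h2).symm).eq

/-- A `p`-group-valued involution-free action: `p` divides the size of an invariant set. -/
theorem dvd_card_of_conj [Finite G] [hp : Fact p.Prime] (Q : Subgroup G) (hQ : IsPGroup p Q)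
    (T : Set G) (hT : ∀ q ∈ Q, ∀ x ∈ T, q * x * q⁻¹ ∈ T)
    (hfix : ∀ x ∈ T, ∃ q ∈ Q, q * x ≠ x * q) : p ∣ Nat.card T := by
  letI : MulAction Q T :=
    { smul := fun q x => ⟨q * x * (q : G)⁻¹, hT q q.2 x x.2⟩
      one_smul := fun x => Subtype.ext (show ((1 : Q) : G) * x * ((1 : Q) : G)⁻¹ = x by simp)
      mul_smul := fun a b x => Subtype.ext (show ((a * b : Q) : G) * x * ((a * b : Q) : G)⁻¹ =
        (a : G) * ((b : G) * x * (b : G)⁻¹) * (a : G)⁻¹ by
          simp [mul_inv_rev, mul_assoc]) }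
  have h1 := hQ.card_modEq_card_fixedPoints T
  have h2 : MulAction.fixedPoints Q T = ∅ := by
    rw [Set.eq_empty_iff_forall_notMem]
    intro x hx
    obtain ⟨q, hq, hne⟩ := hfix x x.2
    apply hne
    have := congrArg Subtype.val (hx ⟨q, hq⟩)
    exact mul_inv_eq_iff_eq_mul.1 this
  rw [h2, Nat.card_coe_set_eq, Nat.card_coe_set_eq, Set.ncard_empty] at h1
  rw [Nat.card_coe_set_eq]
  exact (Nat.modEq_zero_iff_dvd).1 h1

end CfsgLib.Solvable.CyclicAbelianPPrime
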