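import Cfsg.Agent.Lib.Solvable.CyclicAbelianPPrime.Setting
import Cfsg.Agent.Lib.OddOrder.CNTheorem

/-!
The case in which no nontrivial `p'`-element centralises `P`: then `G` is a CA group, of even order,
and counting the involutions gives a contradiction.
-/

set_option autoImplicit false

namespace CfsgLib.Solvable.CyclicAbelianPPrime

variable {G : Type*} [Group G] [Finite G] {p : ℕ} [hp : Fact p.Prime] {P : Sylow p G} {z : G}

namespace Setting

variable (S : Setting P z)
include S

/-- `U = 1`. -/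
theorem false_of_free
    (hU : ∀ x : G, (orderOf x).Coprime p → (∀ u ∈ (P : Subgroup G), x * u = u * x) → x = 1) :
    False := by
  classical
  have hz : ∀ x : G, x * z = z * x → x ∈ (P : Subgroup G) := by
    intro x hx
    obtain ⟨a, b, rfl, ha, hb, hac, hbp⟩ := exists_decomp (p := p) x
    have hsub : ∀ y ∈ Subgroup.zpowers (a * b), y * z = z * y := by
      rintro y ⟨i, rfl⟩
      exact ((show Commute (a * b) z from hx).zpow_left i).eq
    have ha1 : a = 1 := hU a hac (S.comm_P_of_comm hac (hsub a ha))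
    rw [ha1, one_mul]
    exact mem_sylow_of_normalizes P hbp (S.mem_normalizer_of_comm (hsub b hb))
  have hw : ∀ w : G, orderOf w = p → ∃ g : G, ∀ x : G, x * w = w * x →
      g * x * g⁻¹ ∈ (P : Subgroup G) := by
    intro w hw
    obtain ⟨g, -, hg⟩ := S.exists_conj hw
    refine ⟨g, fun x hx => hz _ ?_⟩
    obtain ⟨i, hi⟩ := hg
    have h1 : Commute (g * x * g⁻¹) (g * w * g⁻¹) := conj_comm_iff.2 hx
    rw [← hi]
    exact (h1.zpow_right i).eq
  have hwx : ∀ x : G, p ∣ orderOf x → ∃ g : G, ∀ y : G, y * x = x * y →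
      g * y * g⁻¹ ∈ (P : Subgroup G) := by
    intro x hx
    obtain ⟨g, hg⟩ := hw (x ^ (orderOf x / p))
      (orderOf_pow_orderOf_div (orderOf_pos x).ne' hx)
    exact ⟨g, fun y hy => hg y ((show Commute y x from hy).pow_right _).eq⟩
  have hp' : ∀ x : G, x ≠ 1 → (orderOf x).Coprime p →
      ¬ p ∣ Nat.card (Subgroup.centralizer ({x} : Set G)) := by
    intro x hx hxc
    intro hd
    obtain ⟨w, hwo⟩ := exists_prime_orderOf_dvd_card' p hd
    obtain ⟨g, hg⟩ := hw (w : G) (by rw [Subgroup.orderOf_coe]; exact hwo)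
    have h1 := hg x (Subgroup.mem_centralizer_singleton_iff.1 w.2).symm
    have ho : orderOf (g * x * g⁻¹) = orderOf x :=
      orderOf_injective (MulAut.conj g).toMonoidHom (MulAut.conj g).injective x
    have h2 : g * x * g⁻¹ = 1 := eq_one_of_coprime P.2 h1 (by rwa [ho])
    exact hx (conj_eq_one_iff.1 h2)
  have hdich : ∀ x : G, (orderOf x).Coprime p ∨ p ∣ orderOf x := fun x =>
    (em (p ∣ orderOf x)).symm.imp (fun h => (hp.out.coprime_iff_not_dvd.2 h).symm) id
  have hCA : ∀ x : G, x ≠ 1 → ∀ a b : G, a * x = x * a → b * x = x * b → a * b = b * a := by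
    intro x hx a b ha hb
    rcases hdich x with hxc | hxd
    · exact S.ab _ (hp' x hx hxc) a (Subgroup.mem_centralizer_singleton_iff.2 ha) b
        (Subgroup.mem_centralizer_singleton_iff.2 hb)
    · obtain ⟨g, hg⟩ := hwx x hxd
      exact conj_comm_iff.1 (S.comm_P (hg a ha) (hg b hb))
  -- even order
  have heven : 2 ∣ Nat.card G := by
    by_contra h
    have hodd : Odd (Nat.card G) := Nat.not_even_iff_odd.1 (fun he => h he.two_dvd)
    have hCN : Cfsg.IsCNGroup G := by
      intro x hx
      letI : CommGroup (Subgroup.centralizer ({x} : Set G)) :=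
        { (inferInstance : Group (Subgroup.centralizer ({x} : Set G))) with
          mul_comm := fun a b => Subtype.ext (hCA x hx a b
            (Subgroup.mem_centralizer_singleton_iff.1 a.2)
            (Subgroup.mem_centralizer_singleton_iff.1 b.2)) }
      exact CommGroup.isNilpotent
    haveI := S.simple
    haveI := CfsgLib.OddOrder.CNTheorem.isSolvable hodd hCN
    obtain ⟨a, b, hab⟩ := S.noncomm
    exact hab (IsSimpleGroup.comm_iff_isSolvable.2 inferInstance a b)
  haveI := Fact.mk Nat.prime_two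
  have hinv_c : ∀ t : G, orderOf t = 2 → (orderOf t).Coprime p := fun t ht => by
    rw [ht]; exact (Nat.coprime_primes Nat.prime_two hp.out).2 (Ne.symm S.odd)
  have hne1 : ∀ t : G, orderOf t = 2 → t ≠ 1 := fun t ht h => by simp [h] at ht
  have h2ne : ∀ x : G, orderOf x = 2 → x * x = 1 := fun x hx => by
    rw [← sq, ← hx, pow_orderOf_eq_one]
  -- inverted elements
  have hinvP : ∀ x : G, x ≠ 1 → x * x ≠ 1 → (orderOf x).Coprime p → ∀ t : G, orderOf t = 2 →
      t * x * t⁻¹ ≠ x⁻¹ := by
    intro x hx hxx hxc t ht he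
    have hn : t ∈ Subgroup.normalizer
        ((Subgroup.centralizer ({x} : Set G) : Subgroup G) : Set G) := by
      rw [Subgroup.mem_normalizer_iff]
      intro y
      rw [Subgroup.mem_centralizer_singleton_iff, Subgroup.mem_centralizer_singleton_iff,
        ← conj_comm_iff (g := t), he]
      exact ⟨fun h => by simpa using ((show Commute (t * y * t⁻¹) x⁻¹ from h).inv_right).eq,
        fun h => ((show Commute (t * y * t⁻¹) x from h).inv_right).eq⟩
    have h1 := comm_of_normalizes S.ab _ (hp' x hx hxc) (hinv_c t ht) hn x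
      (Subgroup.mem_centralizer_singleton_iff.2 rfl)
    rw [h1, mul_inv_cancel_right] at he
    exact hxx (by nth_rewrite 2 [he]; rw [mul_inv_cancel])
  -- two non-commuting involutions exist
  obtain ⟨t₀, s₀, ht₀, hs₀, hts₀⟩ : ∃ t s : G, orderOf t = 2 ∧ orderOf s = 2 ∧ t * s ≠ s * t := by
    obtain ⟨t, ht⟩ := exists_prime_orderOf_dvd_card' 2 heven
    by_contra hne
    push Not at hne
    have hle : Subgroup.normalClosure ({t} : Set G) ≤ Subgroup.centralizer ({t} : Set G) := by
      rw [Subgroup.normalClosure, Subgroup.closure_le]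
      intro y hy
      obtain ⟨a, ha, hy⟩ := Group.mem_conjugatesOfSet_iff.1 hy
      rw [Set.mem_singleton_iff.1 ha] at hy
      obtain ⟨c, rfl⟩ := isConj_iff.1 hy
      refine Subgroup.mem_centralizer_singleton_iff.2 (hne t (c * t * c⁻¹) ht ?_).symm
      rw [← ht]; exact orderOf_injective (MulAut.conj c).toMonoidHom (MulAut.conj c).injective t
    haveI := S.simple
    rcases (inferInstance : (Subgroup.normalClosure ({t} : Set G)).Normal).eq_bot_or_eq_top with
      h | h
    · exact hne1 t ht (Subgroup.mem_bot.1 (h ▸ Subgroup.subset_normalClosure (Set.mem_singleton t)))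
    · apply hne1 t ht
      rw [← Subgroup.mem_bot, ← S.center_eq_bot, Subgroup.mem_center_iff]
      intro g
      exact Subgroup.mem_centralizer_singleton_iff.1 (hle (h ▸ Subgroup.mem_top g))
  -- conjugate so that an involution inverts an element of `P`
  obtain ⟨t, ht, htP⟩ : ∃ t : G, orderOf t = 2 ∧
      t ∈ Subgroup.normalizer ((P : Subgroup G) : Set G) := by
    set x := t₀ * s₀ with hx
    have hxi : t₀ * x * t₀⁻¹ = x⁻¹ := by
      rw [hx, mul_inv_rev, inv_eq_of_mul_eq_one_right (h2ne t₀ ht₀),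
        inv_eq_of_mul_eq_one_right (h2ne s₀ hs₀), ← mul_assoc, h2ne t₀ ht₀, one_mul]
    have hxx : x * x ≠ 1 := by
      intro h
      apply hts₀
      calc t₀ * s₀ = (t₀ * s₀)⁻¹ := (inv_eq_of_mul_eq_one_right h).symm
        _ = s₀ * t₀ := by
          rw [mul_inv_rev, inv_eq_of_mul_eq_one_right (h2ne t₀ ht₀),
            inv_eq_of_mul_eq_one_right (h2ne s₀ hs₀)]
    have hx1 : x ≠ 1 := fun h => hxx (by rw [h, one_mul])
    have hxd := (hdich x).resolve_left fun h => hinvP x hx1 hxx h t₀ ht₀ hxi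
    obtain ⟨g, hg⟩ := hwx x hxd
    refine ⟨g * t₀ * g⁻¹, ?_, ?_⟩
    · rw [← ht₀]; exact orderOf_injective (MulAut.conj g).toMonoidHom (MulAut.conj g).injective t₀
    · -- the conjugate normalises the centraliser of `g x g⁻¹`, which is `P`
      have hCP : ∀ y : G, y * (g * x * g⁻¹) = (g * x * g⁻¹) * y ↔ y ∈ (P : Subgroup G) := by
        intro y
        refine ⟨fun h => ?_, fun h => S.comm_P h (hg x rfl)⟩
        have : y = g * (g⁻¹ * y * g) * g⁻¹ := by group
        rw [this] at h ⊢
        exact hg _ (conj_comm_iff.1 h)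
      rw [Subgroup.mem_normalizer_iff]
      intro y
      have hi : (g * t₀ * g⁻¹) * (g * x * g⁻¹) * (g * t₀ * g⁻¹)⁻¹ = (g * x * g⁻¹)⁻¹ := by
        calc _ = g * (t₀ * x * t₀⁻¹) * g⁻¹ := by group
          _ = _ := by rw [hxi]; group
      rw [← hCP, ← hCP, ← conj_comm_iff (g := g * t₀ * g⁻¹), hi]
      exact ⟨fun h => by simpa using ((show Commute _ _ from h).inv_right).eq,
        fun h => ((show Commute _ _ from h).inv_right).eq⟩
  set A := Subgroup.centralizer ({t} : Set G) with hA
  have hmemA : ∀ y : G, y ∈ A ↔ y * t = t * y := fun y => Subgroup.mem_centralizer_singleton_iff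
  have hAp : ¬ p ∣ Nat.card A := hp' t (hne1 t ht) (hinv_c t ht)
  have hnotP : ∀ y : G, y ∈ (P : Subgroup G) → y * t = t * y → y = 1 := fun y hy h =>
    eq_one_of_coprime P.2 hy (coprime_of_mem hAp ((hmemA y).2 h))
  have htne : ∃ u ∈ (P : Subgroup G), t * u ≠ u * t :=
    ⟨z, S.mem, fun h => S.ne_one (hnotP z S.mem h.symm)⟩
  -- `t` inverts `P`
  have hinv : ∀ u ∈ (P : Subgroup G), t * u * t⁻¹ = u⁻¹ := by
    intro u hu
    have htu : t * u * t⁻¹ ∈ (P : Subgroup G) := (Subgroup.mem_normalizer_iff.1 htP u).1 hu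
    have h1 : (t * u * t⁻¹ * u) * t = t * (t * u * t⁻¹ * u) := by
      rw [show t * (t * u * t⁻¹ * u) = (t * t) * u * t⁻¹ * u by group, h2ne t ht, one_mul,
        inv_eq_of_mul_eq_one_right (h2ne t ht), S.comm_P
          (show t * u * t ∈ (P : Subgroup G) by
            rwa [inv_eq_of_mul_eq_one_right (h2ne t ht)] at htu) hu]
      rw [show u * (t * u * t) * t = u * t * u * (t * t) by group, h2ne t ht, mul_one]
    exact eq_inv_of_mul_eq_one_left (hnotP _ (mul_mem htu hu) h1)
  -- the involutions not commuting with `t`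
  let Y : Set G := {s | orderOf s = 2 ∧ s * t ≠ t * s}
  let I : Set G := {s | orderOf s = 2}
  let J : Set G := {s | orderOf s = 2 ∧ s * t = t * s}
  have hI : p ∣ Nat.card I := by
    refine dvd_card_of_conj (P : Subgroup G) P.2 I ?_ ?_
    · intro q _ x hx
      exact (orderOf_injective (MulAut.conj q).toMonoidHom (MulAut.conj q).injective x).trans hx
    · intro x hx
      refine ⟨z, S.mem, fun h => hne1 x hx ?_⟩
      exact eq_one_of_coprime P.2 (hz x h.symm) (hinv_c x hx)
  have hJ : p ∣ Nat.card J := by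
    obtain ⟨S2, hS2⟩ := (IsPGroup.of_card (p := 2) (n := 1)
      (show Nat.card (Subgroup.zpowers t) = 2 ^ 1 by rw [Nat.card_zpowers, ht, pow_one])
      ).exists_le_sylow
    have htS : t ∈ (S2 : Subgroup G) := hS2 (Subgroup.mem_zpowers t)
    have hS2p : ¬ p ∣ Nat.card (S2 : Subgroup G) := by
      obtain ⟨n, hn⟩ := S2.2.exists_card_eq
      rw [hn]
      intro h
      exact S.odd ((Nat.prime_dvd_prime_iff_eq hp.out Nat.prime_two).1 (hp.out.dvd_of_dvd_pow h))
    have hSA : (S2 : Subgroup G) ≤ A := fun y hy => (hmemA y).2 (S.ab _ hS2p y hy t htS)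
    obtain ⟨y, hy, u, hu, hyu⟩ : ∃ y ∈ Subgroup.normalizer ((S2 : Subgroup G) : Set G),
        ∃ u ∈ (S2 : Subgroup G), u * y ≠ y * u := by
      by_contra hne
      push Not at hne
      obtain ⟨Q, N, hN, hC⟩ := npc_of_burnside S2 hne
      haveI := S.simple
      rcases hN.eq_bot_or_eq_top with h | h
      · have h1 := hC.card_mul
        rw [h, Subgroup.card_bot, one_mul] at h1
        obtain ⟨n, hn⟩ := Q.2.exists_card_eq
        have h2 : p ∣ 2 ^ n := by
          rw [← hn, h1, ← S.ord]; exact orderOf_dvd_natCard z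
        exact S.odd ((Nat.prime_dvd_prime_iff_eq hp.out Nat.prime_two).1 (hp.out.dvd_of_dvd_pow h2))
      · have h1 := hC.card_mul
        rw [h, Subgroup.card_top] at h1
        have h2 : 2 ∣ Nat.card (Q : Subgroup G) := Q.dvd_card_of_dvd_card heven
        rw [(Nat.mul_eq_left Nat.card_pos.ne').1 h1] at h2
        exact absurd h2 (by norm_num)
    obtain ⟨a, b, hab, ha, hb, hac, hbp⟩ := exists_decomp (p := p) y
    have haN := Subgroup.zpowers_le.2 hy ha
    have hbN := Subgroup.zpowers_le.2 hy hb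
    have hbu : b * u ≠ u * b := by
      intro h
      apply hyu
      have h1 : Commute a u := comm_of_normalizes S.ab _ hS2p hac haN u hu
      rw [hab]
      exact ((h1.mul_left (show Commute b u from h)).symm).eq
    have htb : b * t * b⁻¹ ∈ A := hSA ((Subgroup.mem_normalizer_iff.1 hbN t).1 htS)
    have hA' : ∀ s : G, orderOf s = 2 → s * t = t * s → ∀ x : G, x * s = s * x → x * t = t * x :=
      fun s hs hst x hx => hCA s (hne1 s hs) x t hx hst.symm
    refine dvd_card_of_conj (Subgroup.zpowers b) hbp J ?_ ?_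
    · intro q hq x hx
      have hox : orderOf (q * x * q⁻¹) = 2 :=
        (orderOf_injective (MulAut.conj q).toMonoidHom (MulAut.conj q).injective x).trans hx.1
      refine ⟨hox, ?_⟩
      have hqN : q ∈ Subgroup.normalizer ((S2 : Subgroup G) : Set G) :=
        Subgroup.zpowers_le.2 hbN hq
      have hqt : (q * t * q⁻¹) * t = t * (q * t * q⁻¹) :=
        (hmemA _).1 (hSA ((Subgroup.mem_normalizer_iff.1 hqN t).1 htS))
      refine hA' (q * t * q⁻¹) ?_ hqt _ (conj_comm_iff.2 hx.2)
      exact (orderOf_injective (MulAut.conj q).toMonoidHom (MulAut.conj q).injective t).trans ht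
    · intro x hx
      refine ⟨b, Subgroup.mem_zpowers b, fun h => hbu ?_⟩
      exact hCA x (hne1 x hx.1) b u h (hCA t (hne1 t ht) u x ((hmemA u).1 (hSA hu)) hx.2)
  have hY : p ∣ Nat.card Y := by
    have h1 : Nat.card I = Nat.card J + Nat.card Y := by
      rw [Nat.card_coe_set_eq, Nat.card_coe_set_eq, Nat.card_coe_set_eq,
        ← Set.ncard_union_eq ?_ (Set.toFinite _) (Set.toFinite _)]
      · congr 1
        ext s
        simp only [I, J, Y, Set.mem_setOf_eq, Set.mem_union]
        tauto
      · rw [Set.disjoint_left]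
        intro s hs hs'
        exact hs'.2 hs.2
    rw [h1] at hI
    exact (Nat.dvd_add_right hJ).1 hI
  -- the map `(a, u) ↦ t a u a⁻¹`
  haveI : Fintype G := Fintype.ofFinite G
  let D : Finset (G × G) := Finset.univ.filter fun x =>
    x.1 ∈ A ∧ x.2 ∈ (P : Subgroup G) ∧ x.2 ≠ 1
  let φ : G × G → G := fun x => t * (x.1 * x.2 * x.1⁻¹)
  let Yf : Finset G := Finset.univ.filter fun s => s ∈ Y
  let R : Finset G := Finset.univ.filter fun r =>
    r ∈ A ∧ r ∈ Subgroup.normalizer ((P : Subgroup G) : Set G)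
  have hmaps : ∀ x ∈ D, φ x ∈ Yf := by
    rintro ⟨a, u⟩ hx
    simp only [D, Finset.mem_filter, Finset.mem_univ, true_and] at hx
    obtain ⟨ha, hu, hu1⟩ := hx
    have hat : a * t = t * a := (hmemA a).1 ha
    have hv : t * (a * u * a⁻¹) * t⁻¹ = (a * u * a⁻¹)⁻¹ := by
      calc t * (a * u * a⁻¹) * t⁻¹ = (t * a) * u * (t * a)⁻¹ := by group
        _ = a * (t * u * t⁻¹) * a⁻¹ := by rw [← hat]; group
        _ = _ := by rw [hinv u hu]; group
    have hvt : (a * u * a⁻¹) * t ≠ t * (a * u * a⁻¹) := by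
      intro h
      apply hu1
      apply hnotP u hu
      have : (a * u * a⁻¹) * (a * t * a⁻¹) = (a * t * a⁻¹) * (a * u * a⁻¹) := by
        rw [hat, mul_inv_cancel_right]; exact h
      exact conj_comm_iff.1 this
    simp only [Yf, Y, φ, Finset.mem_filter, Finset.mem_univ, true_and, Set.mem_setOf_eq]
    set v := a * u * a⁻¹ with hvdef
    refine ⟨orderOf_eq_prime ?_ ?_, ?_⟩
    · rw [sq, show t * v * (t * v) = (t * v * t⁻¹) * (t * t) * v by group, hv, h2ne t ht,
        mul_one, inv_mul_cancel]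
    · intro h
      apply hvt
      rw [eq_inv_of_mul_eq_one_right h, inv_mul_cancel, mul_inv_cancel]
    · intro h
      apply hvt
      rw [mul_assoc] at h
      exact mul_left_cancel h
  have hfib : ∀ s ∈ Yf, (D.filter fun x => φ x = s).card = R.card := by
    intro s hs
    simp only [Yf, Y, Finset.mem_filter, Finset.mem_univ, true_and, Set.mem_setOf_eq] at hs
    obtain ⟨hs2, hst⟩ := hs
    set x := t * s with hx
    have hxi : t * x * t⁻¹ = x⁻¹ := by
      rw [hx, mul_inv_rev, inv_eq_of_mul_eq_one_right (h2ne t ht),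
        inv_eq_of_mul_eq_one_right (h2ne s hs2), ← mul_assoc, h2ne t ht, one_mul]
    have hxx : x * x ≠ 1 := by
      intro h
      apply hst
      symm
      calc t * s = (t * s)⁻¹ := (inv_eq_of_mul_eq_one_right h).symm
        _ = s * t := by
          rw [mul_inv_rev, inv_eq_of_mul_eq_one_right (h2ne t ht),
            inv_eq_of_mul_eq_one_right (h2ne s hs2)]
    have hx1 : x ≠ 1 := fun h => hxx (by rw [h, one_mul])
    have hxd := (hdich x).resolve_left fun h => hinvP x hx1 hxx h t ht hxi
    obtain ⟨g, hg⟩ := hwx x hxd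
    -- conjugate by an element of `A` into `P`
    have hgt : g * t * g⁻¹ ∈ Subgroup.normalizer ((P : Subgroup G) : Set G) := by
      have hCP : ∀ y : G, y * (g * x * g⁻¹) = (g * x * g⁻¹) * y ↔ y ∈ (P : Subgroup G) := by
        intro y
        refine ⟨fun h => ?_, fun h => S.comm_P h (hg x rfl)⟩
        have : y = g * (g⁻¹ * y * g) * g⁻¹ := by group
        rw [this] at h ⊢
        exact hg _ (conj_comm_iff.1 h)
      rw [Subgroup.mem_normalizer_iff]
      intro y
      have hi : (g * t * g⁻¹) * (g * x * g⁻¹) * (g * t * g⁻¹)⁻¹ = (g * x * g⁻¹)⁻¹ := by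
        calc _ = g * (t * x * t⁻¹) * g⁻¹ := by group
          _ = _ := by rw [hxi]; group
      rw [← hCP, ← hCP, ← conj_comm_iff (g := g * t * g⁻¹), hi]
      exact ⟨fun h => by simpa using ((show Commute _ _ from h).inv_right).eq,
        fun h => ((show Commute _ _ from h).inv_right).eq⟩
    set t' := g * t * g⁻¹ with ht'
    have ht'2 : orderOf t' = 2 :=
      (orderOf_injective (MulAut.conj g).toMonoidHom (MulAut.conj g).injective t).trans ht
    have ht'inv : ∀ u ∈ (P : Subgroup G), t' * u * t'⁻¹ = u⁻¹ := by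
      intro u hu
      have htu : t' * u * t'⁻¹ ∈ (P : Subgroup G) := (Subgroup.mem_normalizer_iff.1 hgt u).1 hu
      have h1 : (t' * u * t'⁻¹ * u) * t' = t' * (t' * u * t'⁻¹ * u) := by
        rw [show t' * (t' * u * t'⁻¹ * u) = (t' * t') * u * t'⁻¹ * u by group, h2ne t' ht'2,
          one_mul, inv_eq_of_mul_eq_one_right (h2ne t' ht'2), S.comm_P
            (show t' * u * t' ∈ (P : Subgroup G) by
              rwa [inv_eq_of_mul_eq_one_right (h2ne t' ht'2)] at htu) hu]
        rw [show u * (t' * u * t') * t' = u * t' * u * (t' * t') by group, h2ne t' ht'2, mul_one]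
      refine eq_inv_of_mul_eq_one_left (eq_one_of_coprime P.2 (mul_mem htu hu) ?_)
      exact coprime_of_mem (hp' t' (hne1 t' ht'2) (hinv_c t' ht'2))
        (Subgroup.mem_centralizer_singleton_iff.2 h1)
    -- `t * t'` centralises `P`, hence lies in `P`
    have htt : t * t' ∈ (P : Subgroup G) := by
      refine hz _ ?_
      have e : (t * t') * z * (t * t')⁻¹ = z := by
        rw [show (t * t') * z * (t * t')⁻¹ = t * (t' * z * t'⁻¹) * t⁻¹ by group,
          ht'inv z S.mem, show t * z⁻¹ * t⁻¹ = (t * z * t⁻¹)⁻¹ by group, hinv z S.mem, inv_inv]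
      exact mul_inv_eq_iff_eq_mul.1 e
    obtain ⟨m, hm⟩ : ∃ m : G, m ∈ (P : Subgroup G) ∧ m * t' * m⁻¹ = t := by
      have hodd : (Nat.card (P : Subgroup G)).Coprime 2 := by
        obtain ⟨n, hn⟩ := P.2.exists_card_eq
        rw [hn]
        exact Nat.Coprime.pow_left _ ((Nat.coprime_primes hp.out Nat.prime_two).2 S.odd)
      obtain ⟨⟨m, hmP⟩, hm⟩ := (powCoprime hodd).surjective ⟨t * t', htt⟩
      have hm2 : m ^ 2 = t * t' := congrArg Subtype.val hm
      refine ⟨m, hmP, ?_⟩
      calc m * t' * m⁻¹ = m * (t' * m⁻¹ * t'⁻¹) * t' := by group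
        _ = m ^ 2 * t' := by rw [ht'inv _ (inv_mem hmP), inv_inv, sq]
        _ = t := by rw [hm2, mul_assoc, h2ne t' ht'2, mul_one]
    set a₀ := (m * g)⁻¹ with ha₀
    have ha₀A : a₀ ∈ A := by
      rw [ha₀]
      refine inv_mem ((hmemA _).2 ?_)
      rw [← mul_inv_eq_iff_eq_mul]
      calc m * g * t * (m * g)⁻¹ = m * t' * m⁻¹ := by rw [ht']; group
        _ = t := hm.2
    set u₀ := m * (g * x * g⁻¹) * m⁻¹ with hu₀
    have hu₀P : u₀ ∈ (P : Subgroup G) := mul_mem (mul_mem hm.1 (hg x rfl)) (inv_mem hm.1)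
    have hx₀ : a₀ * u₀ * a₀⁻¹ = x := by rw [ha₀, hu₀]; group
    refine (Finset.card_bij (fun r _ => (a₀ * r, r⁻¹ * u₀ * r)) ?_ ?_ ?_).symm
    · intro r hr
      simp only [R, Finset.mem_filter, Finset.mem_univ, true_and] at hr
      simp only [D, φ, Finset.mem_filter, Finset.mem_univ, true_and]
      refine ⟨⟨mul_mem ha₀A hr.1, ?_, ?_⟩, ?_⟩
      · have := (Subgroup.mem_normalizer_iff.1 (inv_mem hr.2) u₀).1 hu₀P
        rwa [inv_inv] at this
      · intro h
        apply hx1
        have h1 : u₀ = 1 := by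
          calc u₀ = r * (r⁻¹ * u₀ * r) * r⁻¹ := by group
            _ = 1 := by rw [h]; group
        rw [← hx₀, h1]; group
      · have : a₀ * r * (r⁻¹ * u₀ * r) * (a₀ * r)⁻¹ = a₀ * u₀ * a₀⁻¹ := by group
        rw [this, hx₀, hx, ← mul_assoc, h2ne t ht, one_mul]
    · intro r _ r' _ h
      exact mul_left_cancel (Prod.ext_iff.1 h).1
    · rintro ⟨a, u⟩ hau
      simp only [D, φ, Finset.mem_filter, Finset.mem_univ, true_and] at hau
      obtain ⟨⟨ha, hu, hu1⟩, he⟩ := hau
      have hxv : a * u * a⁻¹ = x := by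
        rw [hx, ← he, ← mul_assoc, h2ne t ht, one_mul]
      have hue : u = (a₀⁻¹ * a)⁻¹ * u₀ * (a₀⁻¹ * a) := by
        calc u = a⁻¹ * (a * u * a⁻¹) * a := by group
          _ = a⁻¹ * (a₀ * u₀ * a₀⁻¹) * a := by rw [hxv, hx₀]
          _ = _ := by group
      refine ⟨a₀⁻¹ * a, ?_, ?_⟩
      · simp only [R, Finset.mem_filter, Finset.mem_univ, true_and]
        refine ⟨mul_mem (inv_mem ha₀A) ha, ?_⟩
        -- it maps `u ≠ 1` into `P`
        set r := a₀⁻¹ * a with hr
        have hcent : ∀ w ∈ (P : Subgroup G), w ≠ 1 → ∀ y : G,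
            y * w = w * y ↔ y ∈ (P : Subgroup G) := by
          intro w hw hw1 y
          refine ⟨fun h => hz y ?_, fun h => S.comm_P h hw⟩
          obtain ⟨n, hn⟩ := IsPGroup.iff_orderOf.1 P.2 ⟨w, hw⟩
          rw [Subgroup.orderOf_mk] at hn
          have hdw : p ∣ orderOf w := by
            rcases Nat.eq_zero_or_pos n with h0 | h0
            · exact absurd (orderOf_eq_one_iff.1 (by rw [hn, h0, pow_zero])) hw1
            · rw [hn]; exact dvd_pow_self p h0.ne'
          have ho := orderOf_pow_orderOf_div (orderOf_pos w).ne' hdw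
          have hzw := mem_zpowers_of_pow_eq_one (S.cyc _ P.2)
            (pow_mem hw (orderOf w / p)) ho S.mem (S.ord ▸ pow_orderOf_eq_one z)
          obtain ⟨i, hi⟩ := hzw
          rw [← hi]
          exact ((((show Commute y w from h).pow_right _)).zpow_right i).eq
        rw [Subgroup.mem_normalizer_iff]
        intro y
        have hu₀1 : u₀ ≠ 1 := fun h => hx1 (by rw [← hx₀, h]; group)
        rw [← hcent u hu hu1 y, ← hcent u₀ hu₀P hu₀1 (r * y * r⁻¹),
          ← conj_comm_iff (g := r),
          show r * u * r⁻¹ = u₀ by rw [hue]; group]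
      · exact Prod.ext (mul_inv_cancel_left a₀ a) hue.symm
  have hcard := Finset.card_eq_sum_card_fiberwise hmaps
  rw [Finset.sum_congr rfl hfib, Finset.sum_const, smul_eq_mul] at hcard
  have hYf : Yf.card = Nat.card Y := by
    rw [← Nat.card_eq_finsetCard]
    exact Nat.card_congr (Equiv.subtypeEquivRight fun s => by simp [Yf])
  have hD : D.card = Nat.card A * (Nat.card (P : Subgroup G) - 1) := by
    have h1 : D = (Finset.univ.filter fun a => a ∈ A) ×ˢ
        ((Finset.univ.filter fun u => u ∈ (P : Subgroup G)).erase 1) := by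
      ext ⟨a, u⟩
      simp only [D, Finset.mem_filter, Finset.mem_univ, true_and, Finset.mem_product,
        Finset.mem_erase]
      tauto
    have h2 : ∀ H : Subgroup G, (Finset.univ.filter fun a => a ∈ H).card = Nat.card H := by
      intro H
      rw [← Nat.card_eq_finsetCard]
      exact Nat.card_congr (Equiv.subtypeEquivRight fun s => by simp)
    rw [h1, Finset.card_product, Finset.card_erase_of_mem (by simp), h2, h2]
  have hPp : p ∣ Nat.card (P : Subgroup G) := by
    have h := Subgroup.orderOf_dvd_natCard _ S.mem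
    rwa [S.ord] at h
  have hdvd : p ∣ D.card := by
    rw [hcard, hYf]
    exact Dvd.dvd.mul_right hY _
  rw [hD] at hdvd
  rcases hp.out.dvd_mul.1 hdvd with h | h
  · exact hAp h
  · have hpos : 0 < Nat.card (P : Subgroup G) := Nat.card_pos
    have := (Nat.dvd_sub hPp h)
    rw [Nat.sub_sub_self hpos] at this
    exact hp.out.ne_one (Nat.dvd_one.1 this)

end Setting

end CfsgLib.Solvable.CyclicAbelianPPrime
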