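import Cfsg.Agent.Lib.Solvable.CyclicAbelianPPrime.Setting

/-!
The case in which some nontrivial `p'`-element centralises `P`: then `p = 3`, the Sylow `2`-subgroup is
a four-group with centraliser structure `C(u) = P ⋊ V₄`, and the commuting graph on involutions would be
a regular friendship graph of degree at least three, which does not exist.
-/

set_option autoImplicit false

namespace CfsgLib.Solvable.CyclicAbelianPPrime

variable {G : Type*} [Group G] [Finite G] {p : ℕ} [hp : Fact p.Prime] {P : Sylow p G} {z : G}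

theorem orderOf_conj (g x : G) : orderOf (g * x * g⁻¹) = orderOf x :=
  orderOf_injective (MulAut.conj g).toMonoidHom (MulAut.conj g).injective x

/-- No graph in which any two vertices have exactly one common neighbour is regular of degree
at least three. -/
theorem false_of_friendship {V : Type*} [Fintype V] [DecidableEq V] [Nonempty V]
    (adj : V → V → Prop) [DecidableRel adj] (hsymm : ∀ a b, adj a b → adj b a)
    (hirr : ∀ a, ¬ adj a a) (d : ℕ) (hd : 3 ≤ d)
    (hdeg : ∀ a, (Finset.univ.filter (adj a)).card = d)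
    (hcom : ∀ a b, a ≠ b → (Finset.univ.filter fun c => adj a c ∧ adj b c).card = 1) : False := by
  set r := (d - 1).minFac with hr
  have hrp : r.Prime := Nat.minFac_prime (by omega)
  haveI := Fact.mk hrp
  have hrd : (d : ZMod r) = 1 := by
    have h : ((d - 1 : ℕ) : ZMod r) = 0 :=
      (CharP.cast_eq_zero_iff (ZMod r) r _).2 (Nat.minFac_dvd _)
    rw [Nat.cast_sub (by omega : 1 ≤ d), Nat.cast_one, sub_eq_zero] at h
    exact h
  let M : Matrix V V (ZMod r) := Matrix.of fun a b => if adj a b then 1 else 0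
  let J : Matrix V V (ZMod r) := Matrix.of fun _ _ => 1
  have hM : ∀ a b, M a b = if adj a b then 1 else 0 := fun a b => rfl
  have hJ : ∀ a b, J a b = 1 := fun a b => rfl
  have hsq : M * M = J := by
    ext a b
    rw [Matrix.mul_apply, hJ]
    simp only [hM, mul_ite, mul_one, mul_zero, ← ite_and, Finset.sum_boole]
    rcases eq_or_ne a b with rfl | hab
    · rw [Finset.filter_congr (q := fun c => adj a c)
        (fun c _ => ⟨fun h => h.2, fun h => ⟨hsymm _ _ h, h⟩⟩), hdeg, hrd]
    · rw [Finset.filter_congr (q := fun c => adj a c ∧ adj b c)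
        (fun c _ => ⟨fun h => ⟨h.2, hsymm _ _ h.1⟩, fun h => ⟨hsymm _ _ h.2, h.1⟩⟩),
        hcom a b hab, Nat.cast_one]
  have hMJ : M * J = J := by
    ext a b
    rw [Matrix.mul_apply, hJ]
    simp only [hM, hJ, mul_one, Finset.sum_boole, hdeg, hrd]
  have hpow : ∀ m, M ^ (m + 2) = J := by
    intro m
    induction m with
    | zero => rw [zero_add, sq, hsq]
    | succ m ih => rw [pow_succ', ih, hMJ]
  have hJJ : J * J = J := by
    calc J * J = M * M * J := by rw [hsq]
      _ = J := by rw [mul_assoc, hMJ, hMJ]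
  have hN1 : (Fintype.card V : ZMod r) = 1 := by
    obtain ⟨v⟩ := ‹Nonempty V›
    have := congrFun (congrFun hJJ v) v
    rw [Matrix.mul_apply] at this
    simpa [hJ] using this
  have hN0 : (Fintype.card V : ZMod r) = 0 := by
    obtain ⟨m, hm⟩ := Nat.exists_eq_add_of_le hrp.two_le
    have h := ZMod.trace_pow_card M
    have h1 : M ^ r = J := by
      have := hpow m
      rwa [show m + 2 = r by omega] at this
    rw [h1] at h
    have h2 : Matrix.trace M = 0 := by
      simp [Matrix.trace, hM, hirr]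
    rw [h2, zero_pow hrp.ne_zero] at h
    simpa [Matrix.trace, hJ] using h
  exact one_ne_zero (hN1.symm.trans hN0)

namespace Setting

variable (S : Setting P z)
include S

/-- The elements of a complement of `P` in its normaliser. -/
theorem exists_complement : ∃ K : Subgroup G, ¬ p ∣ Nat.card K ∧
    (K ≤ Subgroup.normalizer ((P : Subgroup G) : Set G)) ∧
    ∀ l ∈ Subgroup.normalizer ((P : Subgroup G) : Set G),
      ∃ x ∈ (P : Subgroup G), ∃ c ∈ K, l = x * c := by
  set L := Subgroup.normalizer ((P : Subgroup G) : Set G)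
  set P' := (P : Subgroup G).subgroupOf L with hP'
  haveI : P'.Normal := Subgroup.normal_in_normalizer
  have hpd : ¬ p ∣ P'.index := fun h => P.not_dvd_index (h.trans
    (Subgroup.relIndex_dvd_index_of_le Subgroup.le_normalizer))
  have hcop : (Nat.card P').Coprime P'.index := by
    obtain ⟨n, hn⟩ := P.2.exists_card_eq
    rw [Nat.card_congr (Subgroup.subgroupOfEquivOfLe Subgroup.le_normalizer).toEquiv, hn]
    exact Nat.Coprime.pow_left _ (hp.out.coprime_iff_not_dvd.2 hpd)
  obtain ⟨H, hH⟩ := Subgroup.exists_right_complement'_of_coprime hcop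
  refine ⟨H.map L.subtype, ?_, ?_, ?_⟩
  · rw [Subgroup.card_map_of_injective L.subtype_injective, ← hH.symm.index_eq_card]
    exact hpd
  · rintro _ ⟨y, -, rfl⟩
    exact y.2
  · intro l hl
    obtain ⟨⟨a, b⟩, hab⟩ := hH.2 ⟨l, hl⟩
    exact ⟨_, a.2, _, Subgroup.mem_map_of_mem _ b.2, (congrArg Subtype.val hab).symm⟩

theorem comm_z_of_comm {w : G} (hw : w ∈ (P : Subgroup G)) (hw1 : w ≠ 1) {y : G}
    (h : y * w = w * y) : y * z = z * y := by
  obtain ⟨n, hn⟩ := IsPGroup.iff_orderOf.1 P.2 ⟨w, hw⟩
  rw [Subgroup.orderOf_mk] at hn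
  have hdw : p ∣ orderOf w := by
    rcases Nat.eq_zero_or_pos n with h0 | h0
    · exact absurd (orderOf_eq_one_iff.1 (by rw [hn, h0, pow_zero])) hw1
    · rw [hn]; exact dvd_pow_self p h0.ne'
  obtain ⟨i, hi⟩ := mem_zpowers_of_pow_eq_one (S.cyc _ P.2) (pow_mem hw (orderOf w / p))
    (orderOf_pow_orderOf_div (orderOf_pos w).ne' hdw) S.mem (S.ord ▸ pow_orderOf_eq_one z)
  rw [← hi]
  exact (((show Commute y w from h).pow_right _).zpow_right i).eq

theorem complement_comm {K : Subgroup G} (hK : ¬ p ∣ Nat.card K)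
    (hKL : K ≤ Subgroup.normalizer ((P : Subgroup G) : Set G))
    (hdec : ∀ l ∈ Subgroup.normalizer ((P : Subgroup G) : Set G),
      ∃ x ∈ (P : Subgroup G), ∃ c ∈ K, l = x * c)
    {v : G} (hv : (orderOf v).Coprime p) (hvP : ∀ w ∈ (P : Subgroup G), v * w = w * v) : v ∈ K := by
  have hvL : v ∈ Subgroup.normalizer ((P : Subgroup G) : Set G) :=
    S.mem_normalizer_of_comm (hvP z S.mem)
  obtain ⟨x, hx, c, hc, rfl⟩ := hdec v hvL
  have hcP : Commute c x := by
    have := hvP x hx
    rw [mul_assoc] at this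
    exact mul_left_cancel this
  have hx1 : x = 1 := by
    refine eq_one_of_coprime P.2 hx ?_
    have hcomm : Commute (x * c) c⁻¹ :=
      ((hcP.symm.mul_left (Commute.refl c)).inv_right)
    have h := hcomm.orderOf_mul_dvd_lcm
    rw [mul_inv_cancel_right, orderOf_inv] at h
    exact Nat.Coprime.coprime_dvd_left (h.trans (Nat.lcm_dvd_mul _ _))
      (Nat.Coprime.mul_left hv (coprime_of_mem hK hc))
  rwa [hx1, one_mul]

/-- The centraliser of a nontrivial `p'`-element centralising `P` is the normaliser of `P`. -/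
theorem centralizer_eq {v : G} (hv1 : v ≠ 1) (hv : (orderOf v).Coprime p)
    (hvP : ∀ w ∈ (P : Subgroup G), v * w = w * v) :
    Subgroup.centralizer ({v} : Set G) = Subgroup.normalizer ((P : Subgroup G) : Set G) := by
  obtain ⟨K, hK, hKL, hdec⟩ := S.exists_complement
  have hvK := S.complement_comm hK hKL hdec hv hvP
  refine le_antisymm ?_ ?_
  · obtain ⟨k, -, hkn, u, hu, hne⟩ := S.nontriv
    obtain ⟨x, hx, c, hc, rfl⟩ := hdec k hkn
    refine S.centralizer_le hv1 hvP (coprime_of_mem hK hc) (hKL hc) ⟨u, hu, fun h => hne ?_⟩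
      (S.ab K hK c hc v hvK)
    exact ((show Commute x u from S.comm_P hx hu).mul_left h).eq
  · intro l hl
    obtain ⟨x, hx, c, hc, rfl⟩ := hdec l hl
    rw [Subgroup.mem_centralizer_singleton_iff]
    exact (((show Commute v x from hvP x hx).mul_right (S.ab K hK v hvK c hc)).symm).eq

theorem mem_P_of_isPGroup {b : G} (hb : IsPGroup p (Subgroup.zpowers b))
    (h : b ∈ Subgroup.normalizer ((P : Subgroup G) : Set G)) : b ∈ (P : Subgroup G) :=
  mem_sylow_of_normalizes P hb h

/-- The main step. -/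
theorem step {q : ℕ} [hq : Fact q.Prime] {u : G} (huo : orderOf u = q)
    (huP : ∀ w ∈ (P : Subgroup G), u * w = w * u) (hqp : q ≠ p) (Q : Sylow q G)
    (huQ : u ∈ (Q : Subgroup G)) :
    q = 2 ∧ p = 3 ∧ ∃ b : G, b * u * b⁻¹ ≠ u ∧ b ^ 2 * u * (b ^ 2)⁻¹ ≠ u ∧
      b * u * b⁻¹ ≠ b ^ 2 * u * (b ^ 2)⁻¹ ∧
      (b * u * b⁻¹ ∈ (Q : Subgroup G) ∧ b * u * b⁻¹ * z ≠ z * (b * u * b⁻¹)) ∧
      (∀ x ∈ (Q : Subgroup G), x = 1 ∨ x = u ∨ x = b * u * b⁻¹ ∨ x = b ^ 2 * u * (b ^ 2)⁻¹) ∧
      ∀ x ∈ (Q : Subgroup G), (∀ w ∈ (P : Subgroup G), x * w = w * x) → x = 1 ∨ x = u := by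
  classical
  set L := Subgroup.normalizer ((P : Subgroup G) : Set G) with hL
  have hu1 : u ≠ 1 := fun h => hq.out.ne_one (by rw [← huo, h, orderOf_one])
  have huc : (orderOf u).Coprime p := by
    rw [huo]; exact (Nat.coprime_primes hq.out hp.out).2 hqp
  have hQp : ¬ p ∣ Nat.card (Q : Subgroup G) := by
    obtain ⟨n, hn⟩ := Q.2.exists_card_eq
    rw [hn]
    intro h
    exact hqp ((Nat.prime_dvd_prime_iff_eq hp.out hq.out).1 (hp.out.dvd_of_dvd_pow h)).symm
  have hQab : ∀ a ∈ (Q : Subgroup G), ∀ c ∈ (Q : Subgroup G), a * c = c * a := S.ab _ hQp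
  have hCu := S.centralizer_eq hu1 huc huP
  have hQL : (Q : Subgroup G) ≤ L := fun x hx => by
    rw [hL, ← hCu]; exact Subgroup.mem_centralizer_singleton_iff.2 (hQab x hx u huQ)
  -- a `p`-element normalising but not centralising `Q`
  obtain ⟨y, hy, c, hc, hyc⟩ : ∃ y ∈ Subgroup.normalizer ((Q : Subgroup G) : Set G),
      ∃ c ∈ (Q : Subgroup G), c * y ≠ y * c := by
    by_contra hne
    push Not at hne
    obtain ⟨R, N, hN, hC⟩ := npc_of_burnside Q hne
    haveI := S.simple
    rcases hN.eq_bot_or_eq_top with h | h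
    · have h1 := hC.card_mul
      rw [h, Subgroup.card_bot, one_mul] at h1
      obtain ⟨n, hn⟩ := R.2.exists_card_eq
      have h2 : p ∣ q ^ n := by
        rw [← hn, h1, ← S.ord]; exact orderOf_dvd_natCard z
      exact hqp ((Nat.prime_dvd_prime_iff_eq hp.out hq.out).1 (hp.out.dvd_of_dvd_pow h2)).symm
    · have h1 := hC.card_mul
      rw [h, Subgroup.card_top] at h1
      have h2 : q ∣ Nat.card (R : Subgroup G) := R.dvd_card_of_dvd_card (huo ▸ orderOf_dvd_natCard u)
      rw [(Nat.mul_eq_left Nat.card_pos.ne').1 h1] at h2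
      exact hq.out.not_dvd_one h2
  obtain ⟨a, b₀, hab, ha, hb, hac, hbp⟩ := exists_decomp (p := p) y
  have haN := Subgroup.zpowers_le.2 hy ha
  have hbN := Subgroup.zpowers_le.2 hy hb
  have hb₀ : ¬ ∀ x ∈ (Q : Subgroup G), b₀ * x = x * b₀ := by
    intro h
    apply hyc
    have h1 : Commute a c := comm_of_normalizes S.ab _ hQp hac haN c hc
    rw [hab]
    exact ((h1.mul_left (show Commute b₀ c from h c hc)).symm).eq
  obtain ⟨N₀, hN₀⟩ : ∃ j, ∀ x ∈ (Q : Subgroup G), b₀ ^ p ^ j * x = x * b₀ ^ p ^ j := by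
    obtain ⟨n, hn⟩ := IsPGroup.iff_orderOf.1 hbp ⟨b₀, Subgroup.mem_zpowers b₀⟩
    rw [Subgroup.orderOf_mk] at hn
    exact ⟨n, fun x _ => by rw [← hn, pow_orderOf_eq_one, one_mul, mul_one]⟩
  have hex : ∃ j, ∀ x ∈ (Q : Subgroup G), b₀ ^ p ^ j * x = x * b₀ ^ p ^ j := ⟨N₀, hN₀⟩
  have hj0 : Nat.find hex ≠ 0 := fun h => hb₀ fun x hx => by
    simpa [h] using Nat.find_spec hex x hx
  obtain ⟨j, hj⟩ := Nat.exists_eq_succ_of_ne_zero hj0
  set b := b₀ ^ p ^ j with hbdef
  have hbne : ¬ ∀ x ∈ (Q : Subgroup G), b * x = x * b :=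
    Nat.find_min hex (by rw [hj]; exact Nat.lt_succ_self j)
  have hbpc : ∀ x ∈ (Q : Subgroup G), b ^ p * x = x * b ^ p := by
    intro x hx
    rw [hbdef, ← pow_mul, ← pow_succ, ← Nat.succ_eq_add_one, ← hj]
    exact Nat.find_spec hex x hx
  have hbG : IsPGroup p (Subgroup.zpowers b) :=
    hbp.to_le (Subgroup.zpowers_le.2 (pow_mem (Subgroup.mem_zpowers b₀) _))
  have hbQ : b ∈ Subgroup.normalizer ((Q : Subgroup G) : Set G) := pow_mem hbN _
  have hbL : b ∉ L := by
    intro h
    have hbP := mem_sylow_of_normalizes P hbG h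
    apply hbne
    intro x hx
    have h1 : b * x * b⁻¹ * x⁻¹ ∈ (Q : Subgroup G) :=
      mul_mem ((Subgroup.mem_normalizer_iff.1 hbQ x).1 hx) (inv_mem hx)
    have h2 : b * x * b⁻¹ * x⁻¹ ∈ (P : Subgroup G) := by
      rw [show b * x * b⁻¹ * x⁻¹ = b * (x * b⁻¹ * x⁻¹) by group]
      exact mul_mem hbP ((Subgroup.mem_normalizer_iff.1 (hQL hx) b⁻¹).1 (inv_mem hbP))
    have h3 := eq_one_of_coprime P.2 h2 (coprime_of_mem hQp h1)
    exact mul_inv_eq_iff_eq_mul.1 (mul_inv_eq_one.1 h3)
  have hbpL : b ^ p ∈ L := by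
    rw [hL, ← hCu]; exact Subgroup.mem_centralizer_singleton_iff.2 (hbpc u huQ)
  have hbi : ∀ i, 0 < i → i < p → b ^ i ∉ L := by
    intro i hi0 hip h
    apply hbL
    have hcop : Nat.Coprime i p :=
      ((hp.out.coprime_iff_not_dvd).2 (Nat.not_dvd_of_pos_of_lt hi0 hip)).symm
    have hbez := Nat.gcd_eq_gcd_ab i p
    rw [hcop, Nat.cast_one] at hbez
    rw [← zpow_one b, hbez, zpow_add, zpow_mul, zpow_mul, zpow_natCast, zpow_natCast]
    exact mul_mem (zpow_mem h _) (zpow_mem hbpL _)
  -- conjugation by a power of `b` moves every centralising element out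
  set C := Subgroup.centralizer ((P : Subgroup G) : Set G) with hC
  have hmemC : ∀ x : G, x ∈ C ↔ ∀ w ∈ (P : Subgroup G), x * w = w * x := fun x =>
    Subgroup.mem_centralizer_iff.trans ⟨fun h w hw => (h w hw).symm, fun h w hw => (h w hw).symm⟩
  have hmove : ∀ i, 0 < i → i < p → ∀ v, v ∈ (Q : Subgroup G) → v ∈ C →
      b ^ i * v * (b ^ i)⁻¹ ∈ C → v = 1 := by
    intro i hi0 hip v hvQ hvC hv'
    by_contra hv1
    apply hbi i hi0 hip
    set g := b ^ i with hg
    have hv'Q : g * v * g⁻¹ ∈ (Q : Subgroup G) :=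
      (Subgroup.mem_normalizer_iff.1 (pow_mem hbQ i) v).1 hvQ
    have e1 := S.centralizer_eq hv1 (coprime_of_mem hQp hvQ) ((hmemC v).1 hvC)
    have e2 := S.centralizer_eq (v := g * v * g⁻¹) (fun h => hv1 (conj_eq_one_iff.1 h))
      (coprime_of_mem hQp hv'Q) ((hmemC _).1 hv')
    have hconj : ∀ l : G, l ∈ L ↔ g * l * g⁻¹ ∈ L := by
      intro l
      rw [hL]
      nth_rewrite 1 [← e1]
      rw [← e2, Subgroup.mem_centralizer_singleton_iff, Subgroup.mem_centralizer_singleton_iff,
        conj_comm_iff]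
    rw [hL, Subgroup.mem_normalizer_iff]
    intro w
    have key : ∀ g' : G, (∀ l : G, l ∈ L → g' * l * g'⁻¹ ∈ L) → ∀ w ∈ (P : Subgroup G),
        g' * w * g'⁻¹ ∈ (P : Subgroup G) := by
      intro g' hg' w hw
      refine mem_sylow_of_normalizes P ?_ (hg' w (Subgroup.le_normalizer hw))
      obtain ⟨n, hn⟩ := IsPGroup.iff_orderOf.1 P.2 ⟨w, hw⟩
      rw [Subgroup.orderOf_mk] at hn
      exact IsPGroup.of_card (n := n) (by rw [Nat.card_zpowers, orderOf_conj, hn])
    refine ⟨fun hw => key g (fun l hl => (hconj l).1 hl) w hw, fun hw => ?_⟩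
    have := key g⁻¹ (fun l hl => (hconj _).2 (by simpa [mul_assoc] using hl)) _ hw
    simpa [mul_assoc] using this
  -- counting
  have hzN : L = Subgroup.normalizer ((Subgroup.zpowers z : Subgroup G) : Set G) :=
    S.normalizer_zpowers.symm
  have hcyc : IsCyclic (MulAut (Subgroup.zpowers z)) ∧
      Nat.card (MulAut (Subgroup.zpowers z)) = p - 1 := by
    have hcard : Nat.card (Subgroup.zpowers z) = p := by rw [Nat.card_zpowers, S.ord]
    haveI : IsCyclic (Subgroup.zpowers z) := isCyclic_of_prime_card hcard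
    haveI : IsCyclic (ZMod (Nat.card (Subgroup.zpowers z)))ˣ := by
      rw [hcard]; infer_instance
    refine ⟨(IsCyclic.mulAutMulEquiv (Subgroup.zpowers z)).isCyclic.2 inferInstance, ?_⟩
    rw [Nat.card_congr (IsCyclic.mulAutMulEquiv (Subgroup.zpowers z)).toEquiv, hcard,
      Nat.card_eq_fintype_card, ZMod.card_units p]
  have hbound : ∀ T : Subgroup G, T ≤ (Q : Subgroup G) → (∀ v ∈ T, b * v * b⁻¹ ∈ T) →
      Nat.card (T ⊓ C : Subgroup G) * Nat.card (T ⊓ C : Subgroup G) ≤ Nat.card T ∧
      (∀ m, (∀ x ∈ T, x ^ m = 1) → 0 < m →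
        Nat.card T ≤ m * Nat.card (T ⊓ C : Subgroup G)) ∧
      Nat.card T ≤ (p - 1) * Nat.card (T ⊓ C : Subgroup G) := by
    intro T hTQ hTb
    refine ⟨?_, ?_⟩
    · rw [← Nat.card_prod]
      refine Nat.card_le_card_of_injective (fun x : (T ⊓ C : Subgroup G) × (T ⊓ C : Subgroup G) =>
        (⟨(x.1 : G) * (b * x.2 * b⁻¹), mul_mem x.1.2.1 (hTb _ x.2.2.1)⟩ : T)) ?_
      rintro ⟨x₁, x₂⟩ ⟨y₁, y₂⟩ h
      have h1 : (x₁ : G) * (b * x₂ * b⁻¹) = y₁ * (b * y₂ * b⁻¹) := congrArg Subtype.val h
      have h2 : b * ((x₂ : G) * (y₂ : G)⁻¹) * b⁻¹ = (x₁ : G)⁻¹ * y₁ := by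
        calc b * ((x₂ : G) * (y₂ : G)⁻¹) * b⁻¹
            = (x₁ : G)⁻¹ * ((x₁ : G) * (b * x₂ * b⁻¹)) * (b * y₂ * b⁻¹)⁻¹ := by group
          _ = (x₁ : G)⁻¹ * y₁ := by rw [h1]; group
      have h3 := hmove 1 Nat.one_pos hp.out.one_lt _
        (hTQ (mul_mem x₂.2.1 (inv_mem y₂.2.1))) (mul_mem x₂.2.2 (inv_mem y₂.2.2))
        (by rw [pow_one, h2]; exact mul_mem (inv_mem x₁.2.2) y₁.2.2)
      have e2 : x₂ = y₂ := Subtype.ext (mul_inv_eq_one.1 h3)
      subst e2
      rw [mul_right_cancel_iff] at h1
      exact Prod.ext (Subtype.ext h1) rfl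
    · let ψ : T →* MulAut (Subgroup.zpowers z) := (Subgroup.zpowers z).normalizerMonoidHom.comp
        (Subgroup.inclusion (le_trans (le_trans hTQ hQL) hzN.le))
      have hker : Nat.card ψ.ker ≤ Nat.card (T ⊓ C : Subgroup G) := by
        refine Nat.card_le_card_of_injective (fun x => (⟨((x : T) : G), (x : T).2, ?_⟩ :
          (T ⊓ C : Subgroup G))) ?_
        · refine (hmemC _).2 (S.comm_P_of_comm (coprime_of_mem hQp (hTQ (x : T).2)) ?_)
          have hx : (Subgroup.inclusion (le_trans (le_trans hTQ hQL) hzN.le) (x : T)) ∈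
              (Subgroup.zpowers z).normalizerMonoidHom.ker := x.2
          rw [Subgroup.normalizerMonoidHom_ker] at hx
          exact (Subgroup.mem_centralizer_iff.1 hx z (Subgroup.mem_zpowers z)).symm
        · intro x y h
          exact Subtype.ext (Subtype.ext (congrArg Subtype.val h :))
      have hsplit : Nat.card T = Nat.card ψ.ker * Nat.card ψ.range := by
        rw [← Subgroup.index_ker, Subgroup.card_mul_index]
      refine ⟨fun m hm hm0 => ?_, ?_⟩
      · haveI := hcyc.1
        haveI : Fintype (MulAut (Subgroup.zpowers z)) := Fintype.ofFinite _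
        have hr : Nat.card ψ.range ≤ m := by
          refine le_trans ?_ (IsCyclic.card_pow_eq_one_le (α := MulAut (Subgroup.zpowers z)) hm0)
          rw [← Nat.card_eq_finsetCard]
          refine Nat.card_le_card_of_injective (fun x => ⟨(x : MulAut _), ?_⟩) ?_
          · refine Finset.mem_filter.2 ⟨Finset.mem_univ _, ?_⟩
            obtain ⟨⟨t, ht⟩, hxt⟩ := x.2
            rw [← hxt, ← map_pow, show (⟨t, ht⟩ : T) ^ m = 1 from Subtype.ext (hm t ht), map_one]
          · intro x y h
            exact Subtype.ext (congrArg Subtype.val h :)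
        rw [hsplit, mul_comm]
        exact Nat.mul_le_mul hr hker
      · haveI : Finite (MulAut (Subgroup.zpowers z)) := inferInstance
        rw [hsplit, mul_comm, ← hcyc.2]
        exact Nat.mul_le_mul (Nat.le_of_dvd Nat.card_pos (Subgroup.card_subgroup_dvd_card _)) hker
  -- the subgroup of exponent `q`
  let W : Subgroup G :=
    { carrier := {x | x ∈ (Q : Subgroup G) ∧ x ^ q = 1}
      one_mem' := ⟨one_mem _, one_pow _⟩
      mul_mem' := fun {x y} hx hy => ⟨mul_mem hx.1 hy.1, by
        rw [(show Commute x y from hQab x hx.1 y hy.1).mul_pow, hx.2, hy.2, one_mul]⟩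
      inv_mem' := fun {x} hx => ⟨inv_mem hx.1, by rw [inv_pow, hx.2, inv_one]⟩ }
  have hWQ : W ≤ (Q : Subgroup G) := fun x hx => hx.1
  have hWb : ∀ i : ℕ, ∀ v ∈ W, b ^ i * v * (b ^ i)⁻¹ ∈ W := fun i v hv =>
    ⟨(Subgroup.mem_normalizer_iff.1 (pow_mem hbQ i) v).1 hv.1, by rw [conj_pow, hv.2]; group⟩
  obtain ⟨hW1, hW2, -⟩ := hbound W hWQ (fun v hv => by simpa using hWb 1 v hv)
  have hW3 := hW2 q (fun x hx => hx.2) hq.out.pos
  have huC : u ∈ C := (hmemC u).2 huP
  have huW : u ∈ W := ⟨huQ, huo ▸ pow_orderOf_eq_one u⟩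
  have hq0 : q ≤ Nat.card (W ⊓ C : Subgroup G) := by
    rw [← huo]
    exact Nat.le_of_dvd Nat.card_pos (Subgroup.orderOf_dvd_natCard _ ⟨huW, huC⟩)
  have hW0 : Nat.card (W ⊓ C : Subgroup G) = q :=
    le_antisymm (Nat.le_of_mul_le_mul_right (hW1.trans hW3) Nat.card_pos) hq0
  rw [hW0] at hW3
  -- the orbit of the centralising elements
  have horb : p * (q - 1) ≤ Nat.card W - 1 := by
    haveI : Fintype G := Fintype.ofFinite G
    let F := (Finset.range p) ×ˢ ((Finset.univ.filter fun x => x ∈ W ⊓ C).erase (1 : G))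
    let Wf := ((Finset.univ.filter fun x => x ∈ W).erase (1 : G))
    have h : F.card ≤ Wf.card := by
      refine Finset.card_le_card_of_injOn (fun x => b ^ x.1 * x.2 * (b ^ x.1)⁻¹) ?_ ?_
      · intro x hx
        simp only [F, Finset.coe_product, Set.mem_prod, Finset.mem_coe, Finset.mem_erase,
          Finset.mem_filter, Finset.mem_univ, true_and] at hx
        simp only [Wf, Finset.mem_coe, Finset.mem_erase, Finset.mem_filter, Finset.mem_univ,
          true_and]
        exact ⟨fun h => hx.2.1 (conj_eq_one_iff.1 h), hWb _ _ hx.2.2.1⟩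
      · have main : ∀ i j : ℕ, i ≤ j → j < p → ∀ v w : G, v ∈ W ⊓ C → w ∈ W ⊓ C → w ≠ 1 →
            b ^ i * v * (b ^ i)⁻¹ = b ^ j * w * (b ^ j)⁻¹ → i = j ∧ v = w := by
          intro i j hij hj v w hv hw hw1 h
          obtain ⟨k, rfl⟩ := Nat.exists_eq_add_of_le hij
          have h' : v = b ^ k * w * (b ^ k)⁻¹ := by
            rw [pow_add] at h
            calc v = (b ^ i)⁻¹ * (b ^ i * v * (b ^ i)⁻¹) * b ^ i := by group
              _ = b ^ k * w * (b ^ k)⁻¹ := by rw [h]; group
          rcases Nat.eq_zero_or_pos k with rfl | hk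
          · exact ⟨rfl, by simpa using h'⟩
          · exact absurd (hmove k hk (by omega) w hw.1.1 hw.2 (h' ▸ hv.2)) hw1
        rintro ⟨i, v⟩ hiv ⟨j, w⟩ hjw h
        simp only [F, Finset.coe_product, Set.mem_prod, Finset.mem_coe, Finset.mem_erase,
          Finset.mem_filter, Finset.mem_univ, true_and, Finset.mem_range] at hiv hjw
        rcases le_total i j with hij | hij
        · obtain ⟨h1, h2⟩ := main i j hij hjw.1 v w hiv.2.2 hjw.2.2 hjw.2.1 h
          rw [h1, h2]
        · obtain ⟨h1, h2⟩ := main j i hij hiv.1 w v hjw.2.2 hiv.2.2 hiv.2.1 h.symm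
          rw [h1, h2]
    have hc : ∀ H : Subgroup G, ((Finset.univ.filter fun x => x ∈ H).erase (1 : G)).card
        = Nat.card H - 1 := by
      intro H
      rw [Finset.card_erase_of_mem (by simp), ← Nat.card_eq_finsetCard]
      congr 1
      exact Nat.card_congr (Equiv.subtypeEquivRight fun s => by simp)
    simp only [F, Wf, Finset.card_product, Finset.card_range, hc, hW0] at h
    exact h
  -- `q` divides `p - 1`
  have hqd : q ∣ p - 1 := by
    let ψ : W →* MulAut (Subgroup.zpowers z) := (Subgroup.zpowers z).normalizerMonoidHom.comp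
      (Subgroup.inclusion (le_trans (le_trans hWQ hQL) hzN.le))
    set v : W := ⟨b * u * b⁻¹, by simpa using hWb 1 u huW⟩ with hv
    have hne : ψ v ≠ 1 := by
      intro h
      apply hu1
      refine hmove 1 Nat.one_pos hp.out.one_lt u huQ huC ((hmemC _).2 ?_)
      refine S.comm_P_of_comm (by rw [pow_one, orderOf_conj]; exact huc) ?_
      have h' : (Subgroup.inclusion (le_trans (le_trans hWQ hQL) hzN.le) v) ∈
          (Subgroup.zpowers z).normalizerMonoidHom.ker := h
      rw [Subgroup.normalizerMonoidHom_ker] at h'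
      rw [pow_one]
      exact (Subgroup.mem_centralizer_iff.1 h' z (Subgroup.mem_zpowers z)).symm
    have ho : orderOf (ψ v) = q := by
      refine orderOf_eq_prime ?_ hne
      rw [← map_pow, show v ^ q = 1 from Subtype.ext v.2.2, map_one]
    rw [← hcyc.2, ← ho]
    exact orderOf_dvd_natCard _
  have hqlt : q < p := lt_of_le_of_lt (Nat.le_of_dvd (by have := hp.out.two_le; omega) hqd)
    (by have := hp.out.pos; omega)
  have hple : p ≤ q + 1 := by
    have h2 : p * (q - 1) ≤ q * q - 1 := horb.trans (Nat.sub_le_sub_right hW3 1)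
    have h3 : q * q - 1 = (q + 1) * (q - 1) := by simpa using Nat.mul_self_sub_mul_self_eq q 1
    rw [h3] at h2
    exact Nat.le_of_mul_le_mul_right h2 (by have := hq.out.two_le; omega)
  have hq2 : q = 2 := by
    rcases hq.out.eq_two_or_odd with h | h
    · exact h
    · rcases hp.out.eq_two_or_odd with h' | h'
      · exact absurd h' S.odd
      · omega
  have hp3 : p = 3 := by omega
  refine ⟨hq2, hp3, b, ?_⟩
  obtain ⟨hQ1, -, hQ2⟩ := hbound (Q : Subgroup G) le_rfl
    (fun v hv => (Subgroup.mem_normalizer_iff.1 hbQ v).1 hv)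
  have hQC : Nat.card ((Q : Subgroup G) ⊓ C : Subgroup G) ≤ 2 :=
    Nat.le_of_mul_le_mul_right ((hQ1.trans hQ2).trans (by rw [hp3])) Nat.card_pos
  have hne0 : b * u * b⁻¹ ≠ u := fun h => hu1 (hmove 1 Nat.one_pos hp.out.one_lt u huQ huC
    (by rw [pow_one, h]; exact huC))
  have hne2 : b ^ 2 * u * (b ^ 2)⁻¹ ≠ u := fun h => hu1 (hmove 2 (by norm_num) (by omega) u huQ
    huC (by rw [h]; exact huC))
  have hne12 : b * u * b⁻¹ ≠ b ^ 2 * u * (b ^ 2)⁻¹ := by
    intro h
    apply hne0
    calc b * u * b⁻¹ = b⁻¹ * (b ^ 2 * u * (b ^ 2)⁻¹) * b := by group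
      _ = u := by rw [← h]; group
  have hbu : b * u * b⁻¹ ∈ (Q : Subgroup G) := (Subgroup.mem_normalizer_iff.1 hbQ u).1 huQ
  refine ⟨hne0, hne2, hne12, ⟨hbu, fun h => hu1 ?_⟩, ?_, ?_⟩
  · exact hmove 1 Nat.one_pos hp.out.one_lt u huQ huC ((hmemC _).2 (by
      rw [pow_one]; exact S.comm_P_of_comm (by rw [orderOf_conj]; exact huc) h))
  · have hcard : Nat.card (Q : Subgroup G) ≤ 4 := by
      calc Nat.card (Q : Subgroup G) ≤ (p - 1) * Nat.card ((Q : Subgroup G) ⊓ C : Subgroup G) := hQ2
        _ ≤ 4 := by rw [hp3]; omega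
    haveI : Fintype G := Fintype.ofFinite G
    intro x hx
    by_contra hx'
    push Not at hx'
    have hs : ({1, u, b * u * b⁻¹, b ^ 2 * u * (b ^ 2)⁻¹, x} : Finset G) ⊆
        Finset.univ.filter (fun g => g ∈ (Q : Subgroup G)) := by
      intro g hg
      simp only [Finset.mem_insert, Finset.mem_singleton] at hg
      refine Finset.mem_filter.2 ⟨Finset.mem_univ _, ?_⟩
      rcases hg with rfl | rfl | rfl | rfl | rfl
      · exact one_mem _
      · exact huQ
      · exact hbu
      · exact (Subgroup.mem_normalizer_iff.1 (pow_mem hbQ 2) u).1 huQ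
      · exact hx
    have h1 := Finset.card_le_card hs
    have hc : (Finset.univ.filter fun g => g ∈ (Q : Subgroup G)).card
        = Nat.card (Q : Subgroup G) := by
      rw [← Nat.card_eq_finsetCard]
      exact Nat.card_congr (Equiv.subtypeEquivRight fun s => by simp)
    have hb1 : b * u * b⁻¹ ≠ 1 := fun h => hu1 (conj_eq_one_iff.1 h)
    have hb2 : b ^ 2 * u * (b ^ 2)⁻¹ ≠ 1 := fun h => hu1 (conj_eq_one_iff.1 h)
    have hfive : ({1, u, b * u * b⁻¹, b ^ 2 * u * (b ^ 2)⁻¹, x} : Finset G).card = 5 := by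
      rw [Finset.card_insert_of_notMem, Finset.card_insert_of_notMem,
        Finset.card_insert_of_notMem, Finset.card_insert_of_notMem, Finset.card_singleton]
      all_goals simp [Ne.symm hx'.1, Ne.symm hx'.2.1, Ne.symm hx'.2.2.1, Ne.symm hx'.2.2.2,
        Ne.symm hu1, Ne.symm hb1, Ne.symm hb2, Ne.symm hne0, Ne.symm hne2, hne12]
    omega
  · intro x hx hxP
    by_contra hx'
    push Not at hx'
    haveI : Fintype G := Fintype.ofFinite G
    have hs : ({1, u, x} : Finset G) ⊆
        Finset.univ.filter (fun g => g ∈ (Q : Subgroup G) ⊓ C) := by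
      intro g hg
      simp only [Finset.mem_insert, Finset.mem_singleton] at hg
      refine Finset.mem_filter.2 ⟨Finset.mem_univ _, ?_⟩
      rcases hg with rfl | rfl | rfl
      · exact one_mem _
      · exact ⟨huQ, huC⟩
      · exact ⟨hx, (hmemC _).2 hxP⟩
    have h1 := Finset.card_le_card hs
    have hc : (Finset.univ.filter fun g => g ∈ (Q : Subgroup G) ⊓ C).card
        = Nat.card ((Q : Subgroup G) ⊓ C : Subgroup G) := by
      rw [← Nat.card_eq_finsetCard]
      exact Nat.card_congr (Equiv.subtypeEquivRight fun s => by simp)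
    have hthree : ({1, u, x} : Finset G).card = 3 :=
      Finset.card_eq_three.2 ⟨1, u, x, Ne.symm hu1, Ne.symm hx'.1, Ne.symm hx'.2, rfl⟩
    omega

/-- `U ≠ 1`. -/
theorem false_of_centralised {u₀ : G} (hu₀ : u₀ ≠ 1) (hu₀c : (orderOf u₀).Coprime p)
    (hu₀P : ∀ w ∈ (P : Subgroup G), u₀ * w = w * u₀) : False := by
  classical
  obtain ⟨K, hK, hKL, hdec⟩ := S.exists_complement
  set L := Subgroup.normalizer ((P : Subgroup G) : Set G) with hL
  -- every such element has only the prime two in its order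
  have htwo : ∀ v : G, (orderOf v).Coprime p → (∀ w ∈ (P : Subgroup G), v * w = w * v) →
      ∀ q : ℕ, q.Prime → q ∣ orderOf v → q = 2 ∧ p = 3 := by
    intro v hv hvP q hq hqv
    haveI := Fact.mk hq
    have ho := orderOf_pow_orderOf_div (orderOf_pos v).ne' hqv
    have hqp : q ≠ p := by
      intro h
      exact hp.out.ne_one (Nat.Coprime.eq_one_of_dvd hv.symm (h ▸ hqv))
    obtain ⟨Q, hQ⟩ := (IsPGroup.of_card (p := q) (n := 1) (show
      Nat.card (Subgroup.zpowers (v ^ (orderOf v / q))) = q ^ 1 by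
        rw [Nat.card_zpowers, ho, pow_one])).exists_le_sylow
    obtain ⟨h1, h2, -⟩ := S.step ho
      (fun w hw => ((show Commute v w from hvP w hw).pow_left _).eq) hqp Q
      (hQ (Subgroup.mem_zpowers _))
    exact ⟨h1, h2⟩
  obtain ⟨q, hq, hqd⟩ := Nat.exists_prime_and_dvd
    (show orderOf u₀ ≠ 1 from fun h => hu₀ (orderOf_eq_one_iff.1 h))
  obtain ⟨rfl, hp3⟩ := htwo u₀ hu₀c hu₀P q hq hqd
  haveI := Fact.mk Nat.prime_two
  set u := u₀ ^ (orderOf u₀ / 2) with hu
  have huo : orderOf u = 2 := orderOf_pow_orderOf_div (orderOf_pos u₀).ne' hqd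
  have huP : ∀ w ∈ (P : Subgroup G), u * w = w * u :=
    fun w hw => ((show Commute u₀ w from hu₀P w hw).pow_left _).eq
  have hcop2 : ∀ t : G, orderOf t = 2 → (orderOf t).Coprime p := fun t ht => by
    rw [ht, hp3]; decide
  -- the complement is a `2`-group
  have hK2 : IsPGroup 2 K := by
    rw [IsPGroup.iff_orderOf]
    intro c
    suffices h : ∀ q : ℕ, q.Prime → q ∣ orderOf (c : G) → q = 2 by
      refine ⟨(orderOf c).primeFactorsList.length, ?_⟩
      rw [← Subgroup.orderOf_coe]
      exact Nat.eq_prime_pow_of_unique_prime_dvd (orderOf_pos _).ne' (fun {d} hd hdd => h d hd hdd)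
    intro q hq hqc
    by_contra hq2
    have hzN := S.normalizer_zpowers
    -- `c ^ 2` centralises `P`
    have hc2 : ((c : G) ^ 2) * z = z * (c : G) ^ 2 := by
      have hcz : (c : G) * z * (c : G)⁻¹ ∈ Subgroup.zpowers z :=
        (Subgroup.mem_normalizer_iff.1 (hzN.symm ▸ hKL c.2) z).1 (Subgroup.mem_zpowers z)
      have hz3 : z ^ (3 : ℤ) = 1 := by
        have := pow_orderOf_eq_one z
        rw [S.ord, hp3] at this
        exact_mod_cast this
      obtain ⟨i, hi⟩ := hcz
      simp only at hi
      have key : (c : G) ^ 2 * z * ((c : G) ^ 2)⁻¹ = z ^ (i * i) := by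
        rw [zpow_mul, hi, conj_zpow, hi, sq]; group
      have hr : z ^ (i * i) = z := by
        rcases Int.emod_two_eq_zero_or_one i with _ | _ <;>
        · have h3 : i % 3 = 0 ∨ i % 3 = 1 ∨ i % 3 = 2 := by omega
          have hsq : (i * i) % 3 = 1 ∨ i % 3 = 0 := by
            rcases h3 with h | h | h
            · exact Or.inr h
            · exact Or.inl (by rw [Int.mul_emod, h]; rfl)
            · exact Or.inl (by rw [Int.mul_emod, h]; rfl)
          rcases hsq with h | h
          · obtain ⟨j, hj⟩ : (3 : ℤ) ∣ i * i - 1 :=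
              Int.dvd_of_emod_eq_zero (by rw [Int.sub_emod, h]; rfl)
            rw [show i * i = 1 + 3 * j by omega, zpow_add, zpow_mul, hz3, one_zpow, mul_one,
              zpow_one]
          · exfalso
            obtain ⟨j, rfl⟩ := Int.dvd_of_emod_eq_zero h
            rw [zpow_mul, hz3, one_zpow] at hi
            exact S.ne_one (conj_eq_one_iff.1 hi.symm)
      rw [hr] at key
      exact mul_inv_eq_iff_eq_mul.1 key
    have hcc : (orderOf ((c : G) ^ 2)).Coprime p := coprime_of_mem hK (pow_mem c.2 2)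
    refine hq2 (htwo _ hcc (S.comm_P_of_comm hcc hc2) q hq ?_).1
    rw [orderOf_pow]
    refine Nat.Coprime.dvd_of_dvd_mul_right (k := q) ?_ ?_ (n := Nat.gcd (orderOf (c : G)) 2)
    · exact Nat.Coprime.coprime_dvd_right (Nat.gcd_dvd_right _ _)
        ((Nat.coprime_primes hq Nat.prime_two).2 hq2)
    · rw [Nat.div_mul_cancel (Nat.gcd_dvd_left _ _)]; exact hqc
  obtain ⟨Q, hKQ⟩ := hK2.exists_le_sylow
  have huK := S.complement_comm hK hKL hdec (hcop2 u huo) huP
  obtain ⟨-, -, b, hb1, hb2, hb12, ⟨hcQ, hcz⟩, hQ4, hQC⟩ :=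
    S.step huo huP (by omega) Q (hKQ huK)
  set c := b * u * b⁻¹ with hc
  set c' := b ^ 2 * u * (b ^ 2)⁻¹ with hc'
  have hCu : Subgroup.centralizer ({u} : Set G) = L :=
    S.centralizer_eq (fun h => by simp [h] at huo) (hcop2 u huo) huP
  have hmemL : ∀ x : G, x ∈ L ↔ x * u = u * x := fun x => by
    rw [← hCu]; exact Subgroup.mem_centralizer_singleton_iff
  have hdec' : ∀ l ∈ L, ∃ x ∈ (P : Subgroup G), ∃ k ∈ (Q : Subgroup G), l = x * k := by
    intro l hl
    obtain ⟨x, hx, k, hk, e⟩ := hdec l hl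
    exact ⟨x, hx, k, hKQ hk, e⟩
  have hu1 : u ≠ 1 := fun h => by simp [h] at huo
  have hsq : ∀ x : G, orderOf x = 2 → x * x = 1 := fun x hx => by
    rw [← sq, ← hx, pow_orderOf_eq_one]
  have hQsq : ∀ k ∈ (Q : Subgroup G), k * k = 1 := by
    intro k hk
    rcases hQ4 k hk with rfl | rfl | rfl | rfl
    · exact one_mul 1
    · exact hsq u huo
    · exact hsq c (by rw [hc, orderOf_conj, huo])
    · exact hsq c' (by rw [hc', orderOf_conj, huo])
  have hQab : ∀ a ∈ (Q : Subgroup G), ∀ d ∈ (Q : Subgroup G), a * d = d * a := by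
    intro a ha d hd
    have h := hQsq _ (mul_mem ha hd)
    calc a * d = (a * d)⁻¹ := (inv_eq_of_mul_eq_one_right h).symm
      _ = d * a := by
        rw [mul_inv_rev, inv_eq_of_mul_eq_one_right (hQsq a ha),
          inv_eq_of_mul_eq_one_right (hQsq d hd)]
  -- involutions of `L`
  have hinvk : ∀ k ∈ (Q : Subgroup G), k ≠ 1 → k ≠ u → k ∈ L →
      ∀ w ∈ (P : Subgroup G), k * w * k⁻¹ = w⁻¹ := by
    intro k hk hk1 hku hkL w hw
    have hkc : (orderOf k).Coprime p := by
      rw [orderOf_eq_prime (by rw [sq]; exact hQsq k hk) hk1, hp3]; decide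
    have hne : ∃ w ∈ (P : Subgroup G), k * w ≠ w * k := by
      by_contra h
      push Not at h
      rcases hQC k hk h with h1 | h1
      · exact hk1 h1
      · exact hku h1
    have hkw : k * w * k⁻¹ ∈ (P : Subgroup G) := (Subgroup.mem_normalizer_iff.1 hkL w).1 hw
    refine eq_inv_of_mul_eq_one_left
      (eq_one_of_comm P.2 (S.cyc _ P.2) hkc hkL hne (mul_mem hkw hw) ?_)
    have hkinv : k⁻¹ = k := inv_eq_of_mul_eq_one_right (hQsq k hk)
    rw [show k * (k * w * k⁻¹ * w) = (k * k) * w * k⁻¹ * w by group, hQsq k hk, one_mul, hkinv,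
      S.comm_P (show k * w * k ∈ (P : Subgroup G) by rwa [hkinv] at hkw) hw,
      show w * (k * w * k) * k = w * k * w * (k * k) by group, hQsq k hk, mul_one]
  have hQL : (Q : Subgroup G) ≤ L := fun k hk => (hmemL k).2 (hQab k hk u (hKQ huK))
  have hshape : ∀ t : G, orderOf t = 2 → t ∈ L → t ≠ u →
      ∃ x ∈ (P : Subgroup G), ∃ k ∈ (Q : Subgroup G), k ≠ 1 ∧ k ≠ u ∧ t = x * k := by
    intro t ht htL htu
    obtain ⟨x, hx, k, hk, rfl⟩ := hdec' t htL
    have hxodd : x * x = 1 → x = 1 := by
      intro h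
      refine eq_one_of_coprime P.2 hx (Nat.Coprime.coprime_dvd_left
        (orderOf_dvd_of_pow_eq_one (n := 2) (by rw [sq]; exact h)) ?_)
      rw [hp3]; decide
    refine ⟨x, hx, k, hk, ?_, ?_, rfl⟩
    · rintro rfl
      rw [mul_one] at ht
      have := hxodd (hsq x ht)
      simp [this] at ht
    · intro hku
      apply htu
      rw [hku] at ht ⊢
      have h := hsq _ ht
      rw [show x * u * (x * u) = x * (u * x) * u by group, huP x hx, ← mul_assoc, mul_assoc,
        hsq u huo, mul_one] at h
      rw [hxodd h, one_mul]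
  have hconjall : ∀ t : G, orderOf t = 2 → ∃ g : G, g * t * g⁻¹ = u := by
    intro t ht
    obtain ⟨R, hR⟩ := (IsPGroup.of_card (p := 2) (n := 1) (show
      Nat.card (Subgroup.zpowers t) = 2 ^ 1 by rw [Nat.card_zpowers, ht, pow_one])).exists_le_sylow
    obtain ⟨g, hg⟩ := MulAction.exists_smul_eq G R Q
    have hmem : g * t * g⁻¹ ∈ (Q : Subgroup G) := by
      rw [← hg]
      show g * t * g⁻¹ ∈ (R : Subgroup G).map (MulAut.conj g).toMonoidHom
      exact ⟨t, hR (Subgroup.mem_zpowers t), rfl⟩
    rcases hQ4 _ hmem with h | h | h | h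
    · rw [conj_eq_one_iff.1 h] at ht; simp at ht
    · exact ⟨g, h⟩
    · refine ⟨b⁻¹ * g, ?_⟩
      calc b⁻¹ * g * t * (b⁻¹ * g)⁻¹ = b⁻¹ * (g * t * g⁻¹) * b := by group
        _ = u := by rw [h, hc]; group
    · refine ⟨(b ^ 2)⁻¹ * g, ?_⟩
      calc (b ^ 2)⁻¹ * g * t * ((b ^ 2)⁻¹ * g)⁻¹ = (b ^ 2)⁻¹ * (g * t * g⁻¹) * b ^ 2 := by group
        _ = u := by rw [h, hc']; group
  -- elements centralising a nontrivial element of `P`
  have hUonly : ∀ j : G, (orderOf j).Coprime p → ∀ w ∈ (P : Subgroup G), w ≠ 1 →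
      j * w = w * j → j = 1 ∨ j = u := by
    intro j hj w hw hw1 h
    have hjP := S.comm_P_of_comm hj (S.comm_z_of_comm hw hw1 h)
    exact hQC j (hKQ (S.complement_comm hK hKL hdec hj hjP)) hjP
  -- the graph
  haveI : Fintype G := Fintype.ofFinite G
  let V := {t : G // orderOf t = 2}
  haveI : Nonempty V := ⟨⟨u, huo⟩⟩
  let adj : V → V → Prop := fun s t => s ≠ t ∧ (s : G) * t = t * s
  have htr : ∀ g : G, ∀ a d : V, ∀ a' d' : V, (a' : G) = g * a * g⁻¹ → (d' : G) = g * d * g⁻¹ →
      (adj a' d' ↔ adj a d) := by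
    intro g a d a' d' ha hd
    show (a' ≠ d' ∧ (a' : G) * d' = d' * a') ↔ (a ≠ d ∧ (a : G) * d = d * a)
    rw [ha, hd, conj_comm_iff]
    refine and_congr_left fun _ => ⟨fun h e => h (Subtype.ext ?_), fun h e => h (Subtype.ext ?_)⟩
    · rw [ha, hd, e]
    · have e' := congrArg Subtype.val e
      rw [ha, hd] at e'
      exact mul_left_cancel (mul_right_cancel e')
  let cj : G → V ≃ V := fun g => Equiv.subtypeEquiv (MulAut.conj g).toEquiv
    (fun t => by
      show orderOf t = 2 ↔ orderOf (g * t * g⁻¹) = 2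
      rw [orderOf_conj])
  have hcj : ∀ g : G, ∀ a : V, ((cj g a : V) : G) = g * a * g⁻¹ := fun g a => rfl
  set uV : V := ⟨u, huo⟩
  set d := (Finset.univ.filter (adj uV)).card with hd
  refine false_of_friendship adj (fun a e h => ⟨Ne.symm h.1, h.2.symm⟩) (fun a h => h.1 rfl) d
    ?_ ?_ ?_
  · -- `3 ≤ d`
    set cV : V := ⟨c, by rw [hc, orderOf_conj, huo]⟩
    set cV' : V := ⟨c', by rw [hc', orderOf_conj, huo]⟩
    set dV : V := ⟨z * c * z⁻¹, by rw [orderOf_conj, hc, orderOf_conj, huo]⟩
    have hc'Q : c' ∈ L ∧ (c' : G) * u = u * c' := by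
      have : c' = u * c := by
        have hm : u * c ∈ (Q : Subgroup G) := mul_mem (hKQ huK) hcQ
        rcases hQ4 _ hm with h | h | h | h
        · exact absurd (mul_left_cancel (h.trans (hsq u huo).symm)) hb1
        · rw [mul_eq_left] at h
          exact absurd h (fun e => hu1 (conj_eq_one_iff.1 e))
        · rw [mul_eq_right] at h
          exact absurd h hu1
        · exact h.symm
      have hm : c' ∈ (Q : Subgroup G) := this ▸ mul_mem (hKQ huK) hcQ
      exact ⟨hQL hm, hQab _ hm u (hKQ huK)⟩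
    have hcu : c * u = u * c := hQab c hcQ u (hKQ huK)
    have hzu : u * z = z * u := huP z S.mem
    have hdu : (z * c * z⁻¹) * u = u * (z * c * z⁻¹) := by
      have e : u = z * u * z⁻¹ := by rw [← hzu, mul_inv_cancel_right]
      rw [e, conj_comm_iff]; exact hcu
    have hd1 : z * c * z⁻¹ ≠ c := fun e => hcz (mul_inv_eq_iff_eq_mul.1 e).symm
    have hd2 : z * c * z⁻¹ ≠ c' := by
      intro e
      apply hd1
      have hm : z * c * z⁻¹ * c⁻¹ ∈ (P : Subgroup G) := by
        rw [show z * c * z⁻¹ * c⁻¹ = z * (c * z⁻¹ * c⁻¹) by group]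
        exact mul_mem S.mem ((Subgroup.mem_normalizer_iff.1 (hQL hcQ) _).1 (inv_mem S.mem))
      have hcop : (orderOf (z * c * z⁻¹ * c⁻¹)).Coprime p := by
        rw [e]
        refine Nat.Coprime.coprime_dvd_left (orderOf_dvd_of_pow_eq_one (n := 2) ?_)
          (by rw [hp3]; decide)
        rw [sq]
        refine hQsq _ (mul_mem ?_ (inv_mem hcQ))
        have hm : u * c ∈ (Q : Subgroup G) := mul_mem (hKQ huK) hcQ
        rcases hQ4 _ hm with h | h | h | h
        · exact absurd (mul_left_cancel (h.trans (hsq u huo).symm)) hb1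
        · rw [mul_eq_left] at h
          exact absurd h (fun e => hu1 (conj_eq_one_iff.1 e))
        · rw [mul_eq_right] at h
          exact absurd h hu1
        · exact h ▸ hm
      exact mul_inv_eq_one.1 (eq_one_of_coprime P.2 hm hcop)
    have hd3 : z * c * z⁻¹ ≠ u := by
      intro e
      apply hb1
      show c = u
      calc c = z⁻¹ * (z * c * z⁻¹) * z := by group
        _ = z⁻¹ * (u * z) := by rw [e, mul_assoc]
        _ = u := by rw [hzu, inv_mul_cancel_left]
    have hsub : ({cV, cV', dV} : Finset V) ⊆ Finset.univ.filter (adj uV) := by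
      intro x hx
      simp only [Finset.mem_insert, Finset.mem_singleton] at hx
      refine Finset.mem_filter.2 ⟨Finset.mem_univ _, ?_⟩
      rcases hx with rfl | rfl | rfl
      · exact ⟨fun e => hb1 (congrArg Subtype.val e).symm, hcu.symm⟩
      · exact ⟨fun e => hb2 (congrArg Subtype.val e).symm, hc'Q.2.symm⟩
      · exact ⟨fun e => hd3 (congrArg Subtype.val e).symm, hdu.symm⟩
    have h3 : ({cV, cV', dV} : Finset V).card = 3 := Finset.card_eq_three.2
      ⟨cV, cV', dV, fun e => hb12 (congrArg Subtype.val e),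
        fun e => hd1 (congrArg Subtype.val e).symm, fun e => hd2 (congrArg Subtype.val e).symm, rfl⟩
    rw [← h3]
    exact Finset.card_le_card hsub
  · intro a
    obtain ⟨g, hg⟩ := hconjall a a.2
    rw [hd]
    refine Finset.card_equiv (cj g) fun x => ?_
    simp only [Finset.mem_filter, Finset.mem_univ, true_and]
    exact (htr g a x uV (cj g x) hg.symm (hcj g x)).symm
  · -- reduce to the case in which a common neighbour or an end is `u`
    intro s t hst
    have huniq : ∀ s t i j : V, i = uV → ¬ ((s : G) * t = t * s) →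
        adj s i → adj t i → adj s j → adj t j → j = i := by
      intro s t i j hi hn h1 h2 h3 h4
      subst hi
      have hsL : (s : G) ∈ L := (hmemL _).2 h1.2
      have htL : (t : G) ∈ L := (hmemL _).2 h2.2
      obtain ⟨x, hx, k, hk, hk1, hku, hse⟩ :=
        hshape s s.2 hsL (fun e => h1.1 (Subtype.ext e))
      obtain ⟨y, hy, m, hm, hm1, hmu, hte⟩ :=
        hshape t t.2 htL (fun e => h2.1 (Subtype.ext e))
      have hst' : (s : G) * t = (x * y⁻¹) * (k * m) := by
        rw [hse, hte, show x * k * (y * m) = x * (k * y * k⁻¹) * (k * m) by group,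
          hinvk k hk hk1 hku (hQL hk) y hy]
      set w := (x * y⁻¹) * (x * y⁻¹) with hw
      have hwP : w ∈ (P : Subgroup G) :=
        mul_mem (mul_mem hx (inv_mem hy)) (mul_mem hx (inv_mem hy))
      have hxy : x * y⁻¹ ∈ (P : Subgroup G) := mul_mem hx (inv_mem hy)
      -- `k * m` centralises `P`
      have hkm : (k * m) * (x * y⁻¹) = (x * y⁻¹) * (k * m) := by
        have e1 := hinvk m hm hm1 hmu (hQL hm) _ hxy
        have e2 := hinvk k hk hk1 hku (hQL hk) _ (inv_mem hxy)
        rw [← mul_inv_eq_iff_eq_mul]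
        calc k * m * (x * y⁻¹) * (k * m)⁻¹ = k * (m * (x * y⁻¹) * m⁻¹) * k⁻¹ := by group
          _ = x * y⁻¹ := by rw [e1, e2, inv_inv]
      have hww : ((s : G) * t) * ((s : G) * t) = w := by
        rw [hst', hw, show x * y⁻¹ * (k * m) * (x * y⁻¹ * (k * m))
          = x * y⁻¹ * ((k * m) * (x * y⁻¹)) * (k * m) by group, hkm,
          show x * y⁻¹ * (x * y⁻¹ * (k * m)) * (k * m)
            = x * y⁻¹ * (x * y⁻¹) * ((k * m) * (k * m)) by group,
          hQsq _ (mul_mem hk hm), mul_one]
      have hw1 : w ≠ 1 := by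
        intro e
        apply hn
        rw [← hww] at e
        calc (s : G) * t = ((s : G) * t)⁻¹ := (inv_eq_of_mul_eq_one_right e).symm
          _ = t * s := by
            rw [mul_inv_rev, inv_eq_of_mul_eq_one_right (hsq _ s.2),
              inv_eq_of_mul_eq_one_right (hsq _ t.2)]
      have hjw : (j : G) * w = w * j := by
        rw [← hww]
        have hc1 : Commute (j : G) s := h3.2.symm
        have hc2 : Commute (j : G) t := h4.2.symm
        exact ((hc1.mul_right hc2).mul_right (hc1.mul_right hc2)).eq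
      rcases hUonly j (hcop2 j j.2) w hwP hw1 hjw with h | h
      · exact absurd j.2 (by rw [h]; simp)
      · exact Subtype.ext h
    rw [Finset.card_eq_one]
    by_cases hcomm : (s : G) * t = t * s
    · -- commuting: the third involution
      have hr : orderOf ((s : G) * t) = 2 := by
        refine orderOf_eq_prime ?_ ?_
        · rw [sq]
          nth_rewrite 1 [hcomm]
          rw [show (t : G) * s * (s * t) = t * ((s : G) * s) * t by group, hsq _ s.2, mul_one,
            hsq _ t.2]
        · intro e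
          apply hst
          apply Subtype.ext
          rw [← inv_eq_of_mul_eq_one_right e, inv_eq_of_mul_eq_one_right (hsq _ s.2)]
      refine ⟨⟨(s : G) * t, hr⟩, Finset.eq_singleton_iff_unique_mem.2 ⟨?_, ?_⟩⟩
      · refine Finset.mem_filter.2 ⟨Finset.mem_univ _, ⟨?_, ?_⟩, ⟨?_, ?_⟩⟩
        · intro e
          have e' : (s : G) = s * t := congrArg Subtype.val e
          have := mul_eq_left.1 e'.symm
          exact absurd t.2 (by rw [this]; simp)
        · show (s : G) * (s * t) = s * t * s
          rw [mul_assoc (s : G) t s, ← hcomm]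
        · intro e
          have e' : (t : G) = s * t := congrArg Subtype.val e
          have := mul_eq_right.1 e'.symm
          exact absurd s.2 (by rw [this]; simp)
        · show (t : G) * (s * t) = s * t * t
          rw [← mul_assoc, ← hcomm]
      · intro r hr'
        obtain ⟨-, h1, h2⟩ := Finset.mem_filter.1 hr'
        obtain ⟨g, hg⟩ := hconjall s s.2
        set t' := cj g t
        set r' := cj g r
        have hs' : uV = cj g s := Subtype.ext hg.symm
        have a1 : adj uV r' := (htr g s r uV r' hg.symm (hcj g r)).2 h1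
        have a2 : adj t' r' := (htr g t r t' r' (hcj g t) (hcj g r)).2 h2
        have a3 : adj uV t' := (htr g s t uV t' hg.symm (hcj g t)).2 ⟨hst, hcomm⟩
        obtain ⟨x, hx, k, hk, hk1, hku, hte⟩ :=
          hshape t' t'.2 ((hmemL _).2 a3.2.symm) (fun e => a3.1 (Subtype.ext e.symm))
        obtain ⟨y, hy, m, hm, hm1, hmu, hre⟩ :=
          hshape r' r'.2 ((hmemL _).2 a1.2.symm) (fun e => a1.1 (Subtype.ext e.symm))
        have hxy : x = y := by
          have e := a2.2
          rw [hte, hre, show x * k * (y * m) = x * (k * y * k⁻¹) * (k * m) by group,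
            hinvk k hk hk1 hku (hQL hk) y hy,
            show y * m * (x * k) = y * (m * x * m⁻¹) * (m * k) by group,
            hinvk m hm hm1 hmu (hQL hm) x hx, hQab m hm k hk] at e
          have e' : x * y⁻¹ = y * x⁻¹ := mul_right_cancel e
          have h2 : (x * y⁻¹) * (x * y⁻¹) = 1 := by
            nth_rewrite 1 [e']
            group
          have := eq_one_of_coprime P.2 (mul_mem hx (inv_mem hy)) (Nat.Coprime.coprime_dvd_left
            (orderOf_dvd_of_pow_eq_one (n := 2) (by rw [sq]; exact h2)) (by rw [hp3]; decide))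
          exact mul_inv_eq_one.1 this
        -- `m = u * k`
        have hmk : m = u * k := by
          have hne : m ≠ k := fun e => a2.1 (Subtype.ext (by rw [hte, hre, hxy, e]))
          have huk : u * k ∈ (Q : Subgroup G) := mul_mem (hKQ huK) hk
          have hukne : u * k ≠ k := fun e => hu1 (mul_eq_right.1 e)
          have huk1 : u * k ≠ 1 := fun e => hku
            ((inv_eq_of_mul_eq_one_right e).symm.trans
              (inv_eq_of_mul_eq_one_right (hsq u huo)))
          have huku : u * k ≠ u := fun e => hk1 (mul_eq_left.1 e)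
          rcases hQ4 m hm with h | h | h | h <;> rcases hQ4 k hk with h' | h' | h' | h' <;>
            rcases hQ4 _ huk with h'' | h'' | h'' | h'' <;>
            first
              | exact absurd h hm1 | exact absurd h hmu | exact absurd h' hk1
              | exact absurd h' hku | exact absurd (h.trans h'.symm) hne
              | exact absurd h'' huk1 | exact absurd h'' huku
              | exact absurd (h''.trans h'.symm) hukne | exact h.trans h''.symm
        apply (cj g).injective
        apply Subtype.ext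
        show (r' : G) = g * ((s : G) * t) * g⁻¹
        rw [show g * ((s : G) * t) * g⁻¹ = (g * s * g⁻¹) * (g * t * g⁻¹) by group, hg,
          ← hcj g t, hte, hre, hmk, ← hxy, ← mul_assoc, ← mul_assoc, ← huP x hx]
    · -- non-commuting
      set x := (t : G) * s with hxdef
      have htx : (t : G) * x * (t : G)⁻¹ = x⁻¹ := by
        rw [hxdef, mul_inv_rev, inv_eq_of_mul_eq_one_right (hsq _ t.2),
          inv_eq_of_mul_eq_one_right (hsq _ s.2), ← mul_assoc, hsq _ t.2, one_mul]
      have hxx : x * x ≠ 1 := by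
        intro h
        apply hcomm
        symm
        calc (t : G) * s = ((t : G) * s)⁻¹ := (inv_eq_of_mul_eq_one_right h).symm
          _ = s * t := by
            rw [mul_inv_rev, inv_eq_of_mul_eq_one_right (hsq _ t.2),
              inv_eq_of_mul_eq_one_right (hsq _ s.2)]
      have hts : (s : G) = t * x := by rw [hxdef, ← mul_assoc, hsq _ t.2, one_mul]
      obtain ⟨i, hit, his⟩ : ∃ i : V, adj t i ∧ adj s i := by
        rcases Nat.even_or_odd (orderOf x) with he | ho
        · have h2 := orderOf_pow_orderOf_div (orderOf_pos x).ne' he.two_dvd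
          set j := x ^ (orderOf x / 2) with hj
          have hjinv : j⁻¹ = j := inv_eq_of_mul_eq_one_right (hsq j h2)
          have htj : (t : G) * j = j * t := by
            rw [← mul_inv_eq_iff_eq_mul, hj, ← conj_pow, htx, inv_pow, ← hj, hjinv]
          have hjx : Commute j x := (Commute.refl x).pow_left _
          refine ⟨⟨j, h2⟩, ⟨fun e => ?_, htj⟩, ⟨fun e => ?_, ?_⟩⟩
          · have e' : (t : G) = j := congrArg Subtype.val e
            apply hxx
            have h : x⁻¹ = x := by
              rw [← htx, e', hjx.eq, mul_inv_cancel_right]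
            nth_rewrite 2 [← h]
            rw [mul_inv_cancel]
          · have e' : (s : G) = j := congrArg Subtype.val e
            apply hcomm
            show (s : G) * t = t * s
            rw [e']; exact htj.symm
          · show (s : G) * j = j * s
            rw [hts]
            exact ((show Commute (t : G) j from htj).mul_left hjx.symm).eq
        · have hxd : p ∣ orderOf x := by
            by_contra hnd
            have hxc : (orderOf x).Coprime p := (hp.out.coprime_iff_not_dvd.2 hnd).symm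
            by_cases hC : p ∣ Nat.card (Subgroup.centralizer ({x} : Set G))
            · obtain ⟨w, hwo⟩ := exists_prime_orderOf_dvd_card' p hC
              obtain ⟨g, -, hg⟩ := S.exists_conj (w := (w : G))
                (by rw [Subgroup.orderOf_coe]; exact hwo)
              obtain ⟨i, hi⟩ := hg
              have hxw : Commute x (w : G) := (Subgroup.mem_centralizer_singleton_iff.1 w.2).symm
              have h1 : (g * x * g⁻¹) * z = z * (g * x * g⁻¹) := by
                rw [← hi]
                exact ((show Commute (g * x * g⁻¹) (g * (w : G) * g⁻¹) from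
                  conj_comm_iff.2 hxw.eq).zpow_right i).eq
              rcases hUonly _ (by rwa [orderOf_conj]) z S.mem S.ne_one h1 with h | h
              · exact hxx (by rw [conj_eq_one_iff.1 h, one_mul])
              · have := congrArg orderOf h
                rw [orderOf_conj, huo] at this
                rw [this] at ho
                exact absurd ho (by decide)
            · have hn : (t : G) ∈ Subgroup.normalizer
                  ((Subgroup.centralizer ({x} : Set G) : Subgroup G) : Set G) := by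
                rw [Subgroup.mem_normalizer_iff]
                intro y
                rw [Subgroup.mem_centralizer_singleton_iff, Subgroup.mem_centralizer_singleton_iff,
                  ← conj_comm_iff (g := (t : G)), htx]
                exact ⟨fun h => by simpa using
                    ((show Commute ((t : G) * y * (t : G)⁻¹) x⁻¹ from h).inv_right).eq,
                  fun h => ((show Commute ((t : G) * y * (t : G)⁻¹) x from h).inv_right).eq⟩
              have h1 := comm_of_normalizes S.ab _ hC (hcop2 t t.2) hn x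
                (Subgroup.mem_centralizer_singleton_iff.2 rfl)
              rw [h1, mul_inv_cancel_right] at htx
              exact hxx (by nth_rewrite 2 [htx]; rw [mul_inv_cancel])
          set w := x ^ (orderOf x / p) with hw
          obtain ⟨g, hg1, hg2⟩ := S.exists_conj (w := w)
            (orderOf_pow_orderOf_div (orderOf_pos x).ne' hxd)
          have htw : (t : G) * w * (t : G)⁻¹ = w⁻¹ := by rw [hw, ← conj_pow, htx, inv_pow]
          have hsw : (s : G) * w * (s : G)⁻¹ = w⁻¹ := by
            rw [hts, show (t : G) * x * w * ((t : G) * x)⁻¹ = t * (x * w * x⁻¹) * (t : G)⁻¹ by group,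
              show x * w * x⁻¹ = w by
                rw [hw, ((Commute.refl x).pow_right _).eq, mul_inv_cancel_right]]
            exact htw
          have hzp : Subgroup.zpowers (g * w * g⁻¹) = Subgroup.zpowers z :=
            le_antisymm (Subgroup.zpowers_le.2 hg1) (Subgroup.zpowers_le.2 hg2)
          have hin : ∀ y : G, y * w * y⁻¹ = w⁻¹ → g * y * g⁻¹ ∈ L := by
            intro y hy
            rw [hL, ← S.normalizer_zpowers, ← hzp]
            have e : (g * y * g⁻¹) * (g * w * g⁻¹) * (g * y * g⁻¹)⁻¹ = (g * w * g⁻¹)⁻¹ := by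
              calc _ = g * (y * w * y⁻¹) * g⁻¹ := by group
                _ = _ := by rw [hy]; group
            rw [Subgroup.mem_normalizer_iff']
            intro a
            set y' := g * y * g⁻¹
            set w' := g * w * g⁻¹
            constructor
            · rintro ⟨i, hi⟩
              exact ⟨-i, by
                calc w' ^ (-i) = (w'⁻¹) ^ i := by rw [inv_zpow, zpow_neg]
                  _ = y' * (w' ^ i) * y'⁻¹ := by rw [← e, conj_zpow]
                  _ = y' * a := by rw [show w' ^ i = a * y' from hi]; group⟩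
            · rintro ⟨i, hi⟩
              refine ⟨-i, ?_⟩
              apply mul_left_cancel (a := y')
              apply mul_right_cancel (b := y'⁻¹)
              show y' * w' ^ (-i) * y'⁻¹ = y' * (a * y') * y'⁻¹
              rw [← conj_zpow, e, inv_zpow, zpow_neg, inv_inv,
                show w' ^ i = y' * a from hi]
              group
          have ht' := (hmemL _).1 (hin t htw)
          have hs' := (hmemL _).1 (hin s hsw)
          have hgi : g * (g⁻¹ * u * g) * g⁻¹ = u := by group
          have hio : orderOf (g⁻¹ * u * g) = 2 := by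
            have h := orderOf_conj g⁻¹ u
            rw [inv_inv] at h
            rw [h, huo]
          have hc1 : (t : G) * (g⁻¹ * u * g) = g⁻¹ * u * g * t :=
            conj_comm_iff.1 (by rw [hgi]; exact ht')
          have hc2 : (s : G) * (g⁻¹ * u * g) = g⁻¹ * u * g * s :=
            conj_comm_iff.1 (by rw [hgi]; exact hs')
          refine ⟨⟨g⁻¹ * u * g, hio⟩, ⟨fun e => hcomm ?_, hc1⟩, ⟨fun e => hcomm ?_, hc2⟩⟩
          · have e' : (t : G) = g⁻¹ * u * g := congrArg Subtype.val e
            show (s : G) * t = t * s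
            rw [e']; exact hc2
          · have e' : (s : G) = g⁻¹ * u * g := congrArg Subtype.val e
            show (s : G) * t = t * s
            rw [e']; exact hc1.symm
      refine ⟨i, Finset.eq_singleton_iff_unique_mem.2 ⟨?_, ?_⟩⟩
      · exact Finset.mem_filter.2 ⟨Finset.mem_univ _, his, hit⟩
      · intro j hj
        obtain ⟨-, h1, h2⟩ := Finset.mem_filter.1 hj
        obtain ⟨g, hg⟩ := hconjall i i.2
        apply (cj g).injective
        refine (huniq (cj g s) (cj g t) (cj g i) (cj g j) (Subtype.ext hg) ?_ ?_ ?_ ?_ ?_)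
        · intro e
          exact hcomm (conj_comm_iff.1 e)
        · exact (htr g s i _ _ rfl rfl).2 his
        · exact (htr g t i _ _ rfl rfl).2 hit
        · exact (htr g s j _ _ rfl rfl).2 h1
        · exact (htr g t j _ _ rfl rfl).2 h2

end Setting

end CfsgLib.Solvable.CyclicAbelianPPrime
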