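import Cfsg.Agent.Lib.Solvable.CyclicAbelianPPrime.FixedFree
import Cfsg.Agent.Lib.Solvable.CyclicAbelianPPrime.Friend

/-!
Cyclic Sylow `p`-subgroup and all `p'`-subgroups abelian: `p`-nilpotent or normal Sylow `p`-subgroup.
-/

set_option autoImplicit false

namespace CfsgLib.Solvable.CyclicAbelianPPrime

universe u

theorem normal_of_forall {G : Type*} [Group G] {p : ℕ} [Fact p.Prime] [Finite G]
    (P : Sylow p G) (h : (P : Subgroup G).Normal) : ∀ Q : Sylow p G, (Q : Subgroup G).Normal := by
  intro Q
  haveI := Sylow.unique_of_normal P h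
  rwa [Subsingleton.elim Q P]

theorem main : ∀ (n : ℕ) (G : Type u) [Group G] [Finite G] (p : ℕ) [Fact p.Prime],
    Nat.card G = n → Cyc G p → Ab G p → Concl G p := by
  intro n
  induction n using Nat.strong_induction_on with
  | _ n ih =>
    intro G _ _ p hpf hn hcyc hab
    have hp := (Fact.out : p.Prime)
    classical
    by_contra hfail
    unfold Concl at hfail
    push Not at hfail
    obtain ⟨hnpc, P, hPnn⟩ := hfail
    by_cases hpd : p ∣ Nat.card G
    swap
    · exact hnpc (CfsgLib.Fusion.Basic.npc_of_not_dvd hpd)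
    -- a nontrivially acting `p'`-element
    obtain ⟨k, hkc, hkn, u, hu, hku⟩ := exists_noncentral P (hcyc _ P.2) hnpc
    have hp2 : p ≠ 2 := by
      intro h2
      apply hnpc
      refine ⟨P, _, inferInstance, MonoidHom.ker_transferSylow_isComplement' P
        (IsCyclic.normalizer_le_centralizer ?_ (hcyc _ P.2))⟩
      subst h2
      exact ((Nat.minFac_eq_two_iff _).2 hpd)
    have hsub : ∀ K : Subgroup G, K ≠ ⊤ → Concl K p := by
      intro K hK
      refine ih (Nat.card K) ?_ K p rfl (cyc_subgroup hcyc K) (ab_subgroup hab K)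
      rw [← hn]
      exact lt_of_le_of_ne (Nat.le_of_dvd Nat.card_pos (Subgroup.card_subgroup_dvd_card K))
        fun h => hK (Subgroup.eq_top_of_card_eq K h)
    -- every element of `P` is a commutator with `k`
    have hcomm : ∀ w ∈ (P : Subgroup G), ∀ C : Subgroup G, C.Normal → k ∈ C → w ∈ C := by
      intro w hw C hC hkC
      let f : ↥(P : Subgroup G) → ↥(P : Subgroup G) := fun v => ⟨(v : G) * (k * (v : G)⁻¹ * k⁻¹),
        mul_mem v.2 ((Subgroup.mem_normalizer_iff.1 hkn _).1 (inv_mem v.2))⟩
      have hf : Function.Injective f := by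
        intro v v' h
        have h1 : (v : G) * (k * (v : G)⁻¹ * k⁻¹) = v' * (k * (v' : G)⁻¹ * k⁻¹) :=
          congrArg Subtype.val h
        have h2 : k * ((v' : G)⁻¹ * v) * k⁻¹ = (v' : G)⁻¹ * v := by
          calc k * ((v' : G)⁻¹ * v) * k⁻¹
              = (k * (v' : G)⁻¹ * k⁻¹) * (k * (v : G)⁻¹ * k⁻¹)⁻¹ := by group
            _ = (v' : G)⁻¹ * (v' * (k * (v' : G)⁻¹ * k⁻¹)) * (k * (v : G)⁻¹ * k⁻¹)⁻¹ := by group
            _ = (v' : G)⁻¹ * v := by rw [← h1]; group
        have h3 : (v' : G)⁻¹ * v = 1 := eq_one_of_comm P.2 (hcyc _ P.2) hkc hkn ⟨u, hu, hku⟩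
          (mul_mem (inv_mem v'.2) v.2) (mul_inv_eq_iff_eq_mul.1 h2)
        exact Subtype.ext (inv_mul_eq_one.1 h3).symm
      obtain ⟨v, hv⟩ := (Finite.injective_iff_surjective.1 hf) ⟨w, hw⟩
      have hv' : (v : G) * (k * (v : G)⁻¹ * k⁻¹) = w := congrArg Subtype.val hv
      rw [← hv', ← mul_assoc, ← mul_assoc]
      exact mul_mem (hC.conj_mem k hkC v) (inv_mem hkC)
    -- no nontrivial normal `p'`-subgroup
    have hA : ∀ N : Subgroup G, N.Normal → ¬ p ∣ Nat.card N → N = ⊥ := by
      intro N hN hNp
      by_contra hNb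
      haveI := hN
      have hlt : Nat.card (G ⧸ N) < n := by
        rw [← hn, Subgroup.card_eq_card_quotient_mul_card_subgroup N]
        exact lt_mul_of_one_lt_right Nat.card_pos ((Subgroup.one_lt_card_iff_ne_bot N).2 hNb)
      rcases ih _ hlt (G ⧸ N) p rfl (cyc_quotient hcyc N) (ab_quotient hab N hNp) with h | h
      · apply hnpc
        rw [CfsgLib.Fusion.Basic.npc_iff_coprime] at h ⊢
        have hle : Cfsg.pResidual p G ≤ (Cfsg.pResidual p (G ⧸ N)).comap (QuotientGroup.mk' N) :=
          Subgroup.map_le_iff_le_comap.1 (CfsgLib.Fusion.Basic.map_pResidual_le _)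
        refine (hp.coprime_iff_not_dvd.2 (not_dvd_card_of_forall _ fun g hg => ?_)).symm
        have h1 : (orderOf (QuotientGroup.mk' N g)).Coprime p :=
          Nat.Coprime.coprime_dvd_left (Subgroup.orderOf_dvd_natCard _ (hle hg)) h
        have h2 : g ^ orderOf (QuotientGroup.mk' N g) ∈ N := by
          rw [← QuotientGroup.eq_one_iff]
          exact (map_pow (QuotientGroup.mk' N) g _).trans (pow_orderOf_eq_one _)
        have h3 : orderOf g ∣ orderOf (QuotientGroup.mk' N g) * Nat.card N := by
          apply orderOf_dvd_of_pow_eq_one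
          rw [pow_mul]
          exact orderOf_dvd_iff_pow_eq_one.1 (Subgroup.orderOf_dvd_natCard N h2)
        exact Nat.Coprime.coprime_dvd_left h3
          (Nat.Coprime.mul_left h1 (hp.coprime_iff_not_dvd.2 hNp).symm)
      · -- `k` centralises `N`, hence so does `P`
        have hkN : ∀ x ∈ N, k * x = x * k := comm_of_normalizes hab N hNp hkc (by
          rw [Subgroup.normalizer_eq_top_iff.2 hN]; trivial)
        set C := Subgroup.centralizer (N : Set G)
        have hkC : k ∈ C := Subgroup.mem_centralizer_iff.2 fun x hx => (hkN x hx).symm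
        have hPC : (P : Subgroup G) ≤ C := fun w hw => hcomm w hw C inferInstance hkC
        have hNP : N ≤ Subgroup.normalizer ((P : Subgroup G) : Set G) := by
          intro x hx
          refine Subgroup.centralizer_le_normalizer _ (Subgroup.mem_centralizer_iff.2 fun w hw => ?_)
          exact (Subgroup.mem_centralizer_iff.1 (hPC hw) x hx).symm
        haveI hX : (((P : Subgroup G).map (QuotientGroup.mk' N)).comap
            (QuotientGroup.mk' N)).Normal := by
          haveI := h (P.mapSurjective (QuotientGroup.mk'_surjective N))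
          haveI : ((P : Subgroup G).map (QuotientGroup.mk' N)).Normal := by
            rwa [← Sylow.coe_mapSurjective (hf := QuotientGroup.mk'_surjective N)]
          infer_instance
        have htop := Sylow.normalizer_sup_eq_top' (N := ((P : Subgroup G).map
          (QuotientGroup.mk' N)).comap (QuotientGroup.mk' N)) P (Subgroup.le_comap_map _ _)
        rw [Subgroup.comap_map_eq, QuotientGroup.ker_mk'] at htop
        have hle : (P : Subgroup G) ⊔ N ≤ Subgroup.normalizer ((P : Subgroup G) : Set G) :=
          sup_le Subgroup.le_normalizer hNP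
        exact hPnn (Subgroup.normalizer_eq_top_iff.1
          (top_le_iff.1 (htop.ge.trans (sup_le le_rfl hle))))
    -- no nontrivial normal `p`-subgroup
    have hB : ∀ N : Subgroup G, N.Normal → IsPGroup p N → N = ⊥ := by
      intro N hN hNp
      by_contra hNb
      haveI := hN
      have hd : p ∣ Nat.card N := by
        obtain ⟨m, hm⟩ := hNp.exists_card_eq
        have h1 := (Subgroup.one_lt_card_iff_ne_bot N).2 hNb
        rw [hm] at h1 ⊢
        refine dvd_pow_self p ?_
        rintro rfl
        simp at h1
      obtain ⟨z, hz⟩ := exists_prime_orderOf_dvd_card' p hd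
      have hzo : orderOf (z : G) = p := by rw [Subgroup.orderOf_coe]; exact hz
      have hNP : N ≤ (P : Subgroup G) := by
        obtain ⟨Q, hQ⟩ := hNp.exists_le_sylow
        obtain ⟨g, hg⟩ := MulAction.exists_smul_eq G Q P
        intro x hx
        rw [← hg]
        show x ∈ (Q : Subgroup G).map (MulAut.conj g).toMonoidHom
        have h := hN.conj_mem x hx g⁻¹
        rw [inv_inv] at h
        exact ⟨g⁻¹ * x * g, hQ h, by
          show g * (g⁻¹ * x * g) * g⁻¹ = x
          group⟩
      haveI hM : (Subgroup.zpowers (z : G)).Normal := ⟨fun w hw g => by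
        refine mem_zpowers_of_pow_eq_one (hcyc N hNp) z.2 hzo
          (hN.conj_mem w (Subgroup.zpowers_le.2 z.2 hw) g) ?_
        obtain ⟨i, rfl⟩ := hw
        rw [conj_pow, ← zpow_natCast ((z : G) ^ i), ← zpow_mul, mul_comm, zpow_mul, zpow_natCast,
          ← hzo, pow_orderOf_eq_one, one_zpow, mul_one, mul_inv_cancel]⟩
      set C := Subgroup.centralizer ((Subgroup.zpowers (z : G) : Subgroup G) : Set G) with hC
      have hPC : (P : Subgroup G) ≤ C := by
        intro w hw
        refine Subgroup.mem_centralizer_iff.2 fun x hx => ?_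
        letI := (hcyc _ P.2).commGroup
        exact congrArg Subtype.val (mul_comm
          (⟨x, hNP (Subgroup.zpowers_le.2 z.2 hx)⟩ : (P : Subgroup G)) ⟨w, hw⟩)
      have hkC : k ∉ C := by
        intro h
        have h1 := eq_one_of_comm P.2 (hcyc _ P.2) hkc hkn ⟨u, hu, hku⟩ (hNP z.2)
          (Subgroup.mem_centralizer_iff.1 h z (Subgroup.mem_zpowers _)).symm
        rw [h1, orderOf_one] at hzo
        exact hp.ne_one hzo.symm
      haveI : C.Normal := inferInstance
      rcases hsub C (fun h => hkC (h ▸ Subgroup.mem_top k)) with h | h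
      · -- the complement is normal in `G`, hence trivial
        have hR : (Cfsg.pResidual p C).map C.subtype = ⊥ := by
          refine hA _ ⟨?_⟩ ?_
          · rintro _ ⟨⟨x, hx⟩, hxr, rfl⟩ g
            refine ⟨⟨g * x * g⁻¹, Subgroup.Normal.conj_mem inferInstance x hx g⟩,
              (CfsgLib.Fusion.Basic.mem_pResidual_iff h).2 ?_, rfl⟩
            have h1 := (CfsgLib.Fusion.Basic.mem_pResidual_iff h).1 hxr
            rw [Subgroup.orderOf_mk] at h1 ⊢
            rwa [orderOf_conj]
          · rw [Subgroup.card_map_of_injective C.subtype_injective]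
            exact (hp.coprime_iff_not_dvd).1 (CfsgLib.Fusion.Basic.npc_iff_coprime.1 h).symm
        have hCp : IsPGroup p C := by
          intro x
          obtain ⟨m, hm⟩ := CfsgLib.Fusion.Basic.isPGroup_quotient_pResidual (G := C) (p := p)
            (x : C ⧸ Cfsg.pResidual p C)
          refine ⟨m, ?_⟩
          rw [← QuotientGroup.mk_pow, QuotientGroup.eq_one_iff] at hm
          have := Subgroup.mem_map_of_mem C.subtype hm
          rw [hR, Subgroup.mem_bot] at this
          exact Subtype.ext this
        exact hPnn ((P.3 hCp hPC) ▸ (inferInstance : C.Normal))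
      · haveI := h (P.subtype hPC)
        haveI := Sylow.characteristic_of_normal (P.subtype hPC) this
        apply hPnn
        have hn' : (((P.subtype hPC : Sylow p C) : Subgroup C).map C.subtype).Normal := inferInstance
        rwa [Sylow.coe_subtype, Subgroup.map_subgroupOf_eq_of_le hPC] at hn'
    -- `G` is simple
    haveI : Nontrivial G := Finite.one_lt_card_iff_nontrivial.1
      (lt_of_lt_of_le hp.one_lt (Nat.le_of_dvd Nat.card_pos hpd))
    have hsimple : IsSimpleGroup G := by
      refine ⟨fun N hN => ?_⟩
      by_contra hne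
      push Not at hne
      obtain ⟨hNb, hNt⟩ := hne
      by_cases hdN : p ∣ Nat.card N
      swap
      · exact hNb (hA N hN hdN)
      rcases hsub N hNt with h | h
      · have hR : (Cfsg.pResidual p N).map N.subtype = ⊥ := by
          refine hA _ ⟨?_⟩ ?_
          · rintro _ ⟨⟨x, hx⟩, hxr, rfl⟩ g
            refine ⟨⟨g * x * g⁻¹, hN.conj_mem x hx g⟩,
              (CfsgLib.Fusion.Basic.mem_pResidual_iff h).2 ?_, rfl⟩
            have h1 := (CfsgLib.Fusion.Basic.mem_pResidual_iff h).1 hxr
            rw [Subgroup.orderOf_mk] at h1 ⊢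
            rwa [orderOf_conj]
          · rw [Subgroup.card_map_of_injective N.subtype_injective]
            exact (hp.coprime_iff_not_dvd).1 (CfsgLib.Fusion.Basic.npc_iff_coprime.1 h).symm
        refine hNb (hB N hN fun x => ?_)
        obtain ⟨m, hm⟩ := CfsgLib.Fusion.Basic.isPGroup_quotient_pResidual (G := N) (p := p)
          (x : N ⧸ Cfsg.pResidual p N)
        refine ⟨m, ?_⟩
        rw [← QuotientGroup.mk_pow, QuotientGroup.eq_one_iff] at hm
        have := Subgroup.mem_map_of_mem N.subtype hm
        rw [hR, Subgroup.mem_bot] at this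
        exact Subtype.ext this
      · obtain ⟨R⟩ : Nonempty (Sylow p N) := inferInstance
        haveI := h R
        haveI := Sylow.characteristic_of_normal R this
        have hRb := hB ((R : Subgroup N).map N.subtype) inferInstance (R.2.map _)
        have h1 : p ∣ Nat.card (R : Subgroup N) := R.dvd_card_of_dvd_card hdN
        rw [(Subgroup.map_eq_bot_iff_of_injective _ N.subtype_injective).1 hRb,
          Subgroup.card_bot] at h1
        exact hp.not_dvd_one h1
    obtain ⟨z, hz⟩ := exists_prime_orderOf_dvd_card' p (P.dvd_card_of_dvd_card hpd)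
    have S : Setting P (z : G) :=
      { odd := hp2
        simple := hsimple
        noncomm := by
          by_contra h
          push Not at h
          exact hPnn ⟨fun x hx g => by rw [h g x, mul_inv_cancel_right]; exact hx⟩
        ab := hab
        cyc := hcyc
        mem := z.2
        ord := by rw [Subgroup.orderOf_coe]; exact hz
        nontriv := ⟨k, hkc, hkn, u, hu, hku⟩
        sub := hsub }
    by_cases hU : ∃ x : G, x ≠ 1 ∧ (orderOf x).Coprime p ∧
        ∀ w ∈ (P : Subgroup G), x * w = w * x
    · obtain ⟨x, hx1, hxc, hxP⟩ := hU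
      exact S.false_of_centralised hx1 hxc hxP
    · push Not at hU
      refine S.false_of_free fun x hxc hxP => ?_
      by_contra hx
      obtain ⟨w, hw, hne⟩ := hU x hx hxc
      exact hne (hxP w hw)

theorem npc_or_normal {G : Type u} [Group G] [Finite G] {p : ℕ} [Fact p.Prime] (P : Sylow p G)
    (hcyc : IsCyclic P) (hab : ∀ H : Subgroup G, ¬ p ∣ Nat.card H → IsMulCommutative H) :
    Cfsg.HasNormalPComplement p G ∨ (P : Subgroup G).Normal := by
  have hc : Cyc G p := by
    intro Q hQ
    obtain ⟨R, hR⟩ := hQ.exists_le_sylow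
    haveI : IsCyclic (P : Subgroup G) := hcyc
    haveI : IsCyclic (R : Subgroup G) := (Sylow.equiv P R).isCyclic.1 inferInstance
    exact isCyclic_of_injective (Subgroup.inclusion hR) (Subgroup.inclusion_injective hR)
  have ha : Ab G p := by
    intro H hH a ha b hb
    haveI := hab H hH
    exact congrArg Subtype.val (mul_comm' (⟨a, ha⟩ : H) ⟨b, hb⟩)
  rcases main _ G p rfl hc ha with h | h
  · exact Or.inl h
  · exact Or.inr (h P)

end CfsgLib.Solvable.CyclicAbelianPPrime
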