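import Cfsg.Agent.Lib.Solvable.CyclicAbelianPPrime.Basic

/-!
The setting of a minimal counterexample: simple, all proper overgroups of `P` normalise it.
-/

set_option autoImplicit false

namespace CfsgLib.Solvable.CyclicAbelianPPrime

variable {G : Type*} [Group G] [Finite G] {p : ℕ} [hp : Fact p.Prime]

/-- The data of a minimal counterexample. -/
structure Setting (P : Sylow p G) (z : G) : Prop where
  odd : p ≠ 2
  simple : IsSimpleGroup G
  noncomm : ∃ a b : G, a * b ≠ b * a
  ab : Ab G p
  cyc : Cyc G p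
  mem : z ∈ (P : Subgroup G)
  ord : orderOf z = p
  nontriv : ∃ k : G, (orderOf k).Coprime p ∧
    k ∈ Subgroup.normalizer ((P : Subgroup G) : Set G) ∧ ∃ u ∈ (P : Subgroup G), k * u ≠ u * k
  sub : ∀ K : Subgroup G, K ≠ ⊤ → Concl K p

namespace Setting

variable {P : Sylow p G} {z : G} (S : Setting P z)
include S

theorem center_eq_bot : Subgroup.center G = ⊥ := by
  haveI := S.simple
  rcases (inferInstance : (Subgroup.center G).Normal).eq_bot_or_eq_top with h | h
  · exact h
  · obtain ⟨a, b, hab⟩ := S.noncomm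
    exact absurd (Subgroup.mem_center_iff.1 (h ▸ Subgroup.mem_top a : a ∈ Subgroup.center G) b).symm
      hab

theorem comm_P {a b : G} (ha : a ∈ (P : Subgroup G)) (hb : b ∈ (P : Subgroup G)) :
    a * b = b * a := by
  letI := (S.cyc _ P.2).commGroup
  exact congrArg Subtype.val (mul_comm (⟨a, ha⟩ : (P : Subgroup G)) ⟨b, hb⟩)

/-- A proper subgroup containing `P` and a nontrivially acting element normalises `P`. -/
theorem le_normalizer {K : Subgroup G} (hK : K ≠ ⊤) (hPK : (P : Subgroup G) ≤ K) {k : G}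
    (hk : k ∈ K) (hkc : (orderOf k).Coprime p)
    (hn : k ∈ Subgroup.normalizer ((P : Subgroup G) : Set G))
    (hne : ∃ u ∈ (P : Subgroup G), k * u ≠ u * k) :
    K ≤ Subgroup.normalizer ((P : Subgroup G) : Set G) := by
  rcases S.sub K hK with h | h
  · obtain ⟨u, hu, hne⟩ := hne
    exact absurd (comm_of_npc K h P P.2 hPK hk hkc hn u hu) hne
  · exact (Subgroup.normal_subgroupOf_iff_le_normalizer hPK).1
      (by rw [← Sylow.coe_subtype P hPK]; exact h (P.subtype hPK))

theorem ne_one : z ≠ 1 := fun h => hp.out.ne_one (by rw [← S.ord, h, orderOf_one])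

theorem normalizer_zpowers :
    Subgroup.normalizer ((Subgroup.zpowers z : Subgroup G) : Set G)
      = Subgroup.normalizer ((P : Subgroup G) : Set G) := by
  have hle : Subgroup.normalizer ((P : Subgroup G) : Set G) ≤
      Subgroup.normalizer ((Subgroup.zpowers z : Subgroup G) : Set G) := by
    intro x hx
    have hmem : ∀ y : G, y ∈ Subgroup.normalizer ((P : Subgroup G) : Set G) →
        ∀ w ∈ Subgroup.zpowers z, y * w * y⁻¹ ∈ Subgroup.zpowers z := by
      intro y hy w hw
      refine mem_zpowers_of_pow_eq_one (S.cyc _ P.2) S.mem S.ord ?_ ?_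
      · exact (Subgroup.mem_normalizer_iff.1 hy w).1 (Subgroup.zpowers_le.2 S.mem hw)
      · rw [conj_pow]
        obtain ⟨i, rfl⟩ := hw
        rw [← zpow_natCast, ← zpow_mul, mul_comm, zpow_mul, zpow_natCast, ← S.ord,
          pow_orderOf_eq_one, one_zpow, mul_one, mul_inv_cancel]
    rw [Subgroup.mem_normalizer_iff]
    refine fun w => ⟨hmem x hx w, fun hw => ?_⟩
    have := hmem x⁻¹ (inv_mem hx) _ hw
    simpa [mul_assoc] using this
  refine le_antisymm ?_ hle
  obtain ⟨k, hkc, hkn, hne⟩ := S.nontriv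
  refine S.le_normalizer ?_ (fun u hu => hle (Subgroup.le_normalizer hu)) (hle hkn) hkc hkn hne
  intro htop
  haveI := S.simple
  have hN : (Subgroup.zpowers z).Normal := Subgroup.normalizer_eq_top_iff.1 htop
  rcases hN.eq_bot_or_eq_top with h | h
  · exact S.ne_one (Subgroup.zpowers_eq_bot.1 h)
  · obtain ⟨a, b, hab⟩ := S.noncomm
    obtain ⟨i, rfl⟩ := (h ▸ Subgroup.mem_top a : a ∈ Subgroup.zpowers z)
    obtain ⟨j, rfl⟩ := (h ▸ Subgroup.mem_top b : b ∈ Subgroup.zpowers z)
    exact hab ((Commute.refl z).zpow_zpow i j).eq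

theorem mem_normalizer_of_comm {x : G} (hx : x * z = z * x) :
    x ∈ Subgroup.normalizer ((P : Subgroup G) : Set G) := by
  rw [← S.normalizer_zpowers]
  exact Subgroup.centralizer_le_normalizer _ (Subgroup.mem_centralizer_iff.2 fun w hw => by
    obtain ⟨i, rfl⟩ := hw
    exact ((show Commute x z from hx).zpow_right i).eq.symm)

/-- A `p'`-element centralising `z` centralises `P`. -/
theorem comm_P_of_comm {x : G} (hxc : (orderOf x).Coprime p) (hx : x * z = z * x) :
    ∀ u ∈ (P : Subgroup G), x * u = u * x := by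
  by_contra hne
  push Not at hne
  exact S.ne_one (eq_one_of_comm P.2 (S.cyc _ P.2) hxc (S.mem_normalizer_of_comm hx) hne S.mem hx)

/-- Every element of order `p` is conjugate to a generator of `⟨z⟩`. -/
theorem exists_conj {w : G} (hw : orderOf w = p) :
    ∃ g : G, g * w * g⁻¹ ∈ Subgroup.zpowers z ∧ z ∈ Subgroup.zpowers (g * w * g⁻¹) := by
  have hW : IsPGroup p (Subgroup.zpowers w) :=
    IsPGroup.of_card (n := 1) (by rw [Nat.card_zpowers, hw, pow_one])
  obtain ⟨Q, hQ⟩ := hW.exists_le_sylow
  obtain ⟨g, hg⟩ := MulAction.exists_smul_eq G Q P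
  have hmem : g * w * g⁻¹ ∈ (P : Subgroup G) := by
    rw [← hg]
    show g * w * g⁻¹ ∈ (Q : Subgroup G).map (MulAut.conj g).toMonoidHom
    exact ⟨w, hQ (Subgroup.mem_zpowers w), rfl⟩
  have ho : orderOf (g * w * g⁻¹) = p := by
    rw [← hw]; exact orderOf_injective (MulAut.conj g).toMonoidHom (MulAut.conj g).injective w
  exact ⟨g, mem_zpowers_of_pow_eq_one (S.cyc _ P.2) S.mem S.ord hmem
      (ho ▸ pow_orderOf_eq_one _),
    mem_zpowers_of_pow_eq_one (S.cyc _ P.2) hmem ho S.mem (S.ord ▸ pow_orderOf_eq_one z)⟩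

/-- A nontrivial element centralising `P` and a nontrivially acting element has centraliser in
the normaliser of `P`. -/
theorem centralizer_le {x : G} (hx : x ≠ 1)
    (hxP : ∀ u ∈ (P : Subgroup G), x * u = u * x)
    {k : G} (hkc : (orderOf k).Coprime p)
    (hn : k ∈ Subgroup.normalizer ((P : Subgroup G) : Set G))
    (hne : ∃ u ∈ (P : Subgroup G), k * u ≠ u * k) (hkx : k * x = x * k) :
    Subgroup.centralizer ({x} : Set G) ≤ Subgroup.normalizer ((P : Subgroup G) : Set G) := by
  refine S.le_normalizer ?_ (fun u hu => Subgroup.mem_centralizer_singleton_iff.2 (hxP u hu).symm)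
    (Subgroup.mem_centralizer_singleton_iff.2 hkx) hkc hn hne
  intro h
  apply hx
  rw [← Subgroup.mem_bot, ← S.center_eq_bot, Subgroup.mem_center_iff]
  intro g
  have hg : g ∈ Subgroup.centralizer ({x} : Set G) := h ▸ Subgroup.mem_top g
  exact Subgroup.mem_centralizer_singleton_iff.1 hg

end Setting

/-- Conjugation form of membership in a centraliser. -/
theorem conj_comm_iff {g a b : G} :
    (g * a * g⁻¹) * (g * b * g⁻¹) = (g * b * g⁻¹) * (g * a * g⁻¹) ↔ a * b = b * a := by
  constructor
  · intro h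
    have := congrArg (fun x => g⁻¹ * x * g) h
    simpa [mul_assoc] using this
  · intro h
    have e : ∀ c d : G, (g * c * g⁻¹) * (g * d * g⁻¹) = g * (c * d) * g⁻¹ := fun c d => by group
    rw [e, e, h]

end CfsgLib.Solvable.CyclicAbelianPPrime
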